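import Cfsg.Agent.Lib.Coh8.DatC

/-! The Baer sum of two extensions of M23; uniqueness of the non-split extension by the cocode module. -/

set_option autoImplicit false

namespace H8.Coh

open H54 Cfsg

variable {mat : ℕ → ℕ} {E E' : Type*} [Group E] [Group E'] {π : E →* Spor.M23} {π' : E' →* Spor.M23}
  {θ : Vec → E} {θ' : Vec → E'}

/-- the fibre product -/
def fib (π : E →* Spor.M23) (π' : E' →* Spor.M23) : Subgroup (E × E') :=
  MonoidHom.eqLocus (π.comp (MonoidHom.fst E E')) (π'.comp (MonoidHom.snd E E'))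

theorem mem_fib {d : E × E'} : d ∈ fib π π' ↔ π d.1 = π' d.2 := Iff.rfl

/-- the element `(θ x, θ' y)` of the fibre product -/
def tt (X : Ext mat π θ) (X' : Ext mat π' θ') (x y : Vec) : fib π π' :=
  ⟨(θ x, θ' y), by rw [mem_fib, X.pi_theta, X'.pi_theta]⟩

theorem tt_add (X : Ext mat π θ) (X' : Ext mat π' θ') (x y u v : Vec) :
    tt X X' (x + u) (y + v) = tt X X' x y * tt X X' u v :=
  Subtype.ext (Prod.ext (X.add _ _) (X'.add _ _))

theorem tt_zero (X : Ext mat π θ) (X' : Ext mat π' θ') : tt X X' 0 0 = 1 :=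
  Subtype.ext (Prod.ext (theta_zero X.add) (theta_zero X'.add))

theorem tt_conj (X : Ext mat π θ) (X' : Ext mat π' θ') (d : fib π π') (c : ℕ) (hc : H15.okP c = true)
    (h : (π d.1.1 : Equiv.Perm GolayPt) = H15.permOf c) (x y : Vec) :
    d * tt X X' x y = tt X X' (mv (mat c) x) (mv (mat c) y) * d :=
  Subtype.ext (Prod.ext (X.conj _ c hc h x) (X'.conj _ c hc (by rw [← h, mem_fib.1 d.2]) y))

/-- the diagonal -/
def diag (X : Ext mat π θ) (X' : Ext mat π' θ') : Subgroup (fib π π') where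
  carrier := {d | ∃ x, tt X X' x x = d}
  one_mem' := ⟨0, tt_zero X X'⟩
  mul_mem' := by
    rintro _ _ ⟨x, rfl⟩ ⟨y, rfl⟩
    exact ⟨x + y, tt_add X X' _ _ _ _⟩
  inv_mem' := by
    rintro _ ⟨x, rfl⟩
    exact ⟨x, eq_inv_of_mul_eq_one_left (by rw [← tt_add, vec_add_self, tt_zero])⟩

instance diag_normal (X : Ext mat π θ) (X' : Ext mat π' θ') : (diag X X').Normal :=
  ⟨by
    rintro _ ⟨x, rfl⟩ g
    exact ⟨_, by rw [tt_conj X X' g _ (H15.okP_codeOf _) (H15.permOf_codeOf _).symm, mul_inv_cancel_right]⟩⟩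

/-- the projection of the Baer sum -/
def bpi (X : Ext mat π θ) (X' : Ext mat π' θ') : fib π π' ⧸ diag X X' →* Spor.M23 :=
  QuotientGroup.lift _ (π.comp ((MonoidHom.fst E E').comp (fib π π').subtype)) (by
    rintro _ ⟨x, rfl⟩
    exact X.pi_theta x)

theorem bpi_mk (X : Ext mat π θ) (X' : Ext mat π' θ') (d : fib π π') : bpi X X' (d : fib π π' ⧸ diag X X') = π d.1.1 :=
  rfl

theorem mk_tt (X : Ext mat π θ) (X' : Ext mat π' θ') (x y : Vec) :
    (tt X X' x y : fib π π' ⧸ diag X X') = tt X X' (x + y) 0 := by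
  have : tt X X' x y = tt X X' (x + y) 0 * tt X X' y y := by
    rw [← tt_add, add_assoc, vec_add_self, add_zero, zero_add]
  rw [this, QuotientGroup.mk_mul, (QuotientGroup.eq_one_iff _).2 (show tt X X' y y ∈ diag X X' from ⟨y, rfl⟩), mul_one]

theorem baer (X : Ext mat π θ) (X' : Ext mat π' θ') :
    Ext mat (bpi X X') (fun x => (tt X X' x 0 : fib π π' ⧸ diag X X')) := by
  refine ⟨fun x y => ?_, fun x hx => ?_, fun g => ?_, fun σ => ?_, fun g c hc hg x => ?_⟩
  · rw [← QuotientGroup.mk_mul, ← tt_add, add_zero]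
  · obtain ⟨y, hy⟩ := (QuotientGroup.eq_one_iff _).1 hx
    have h1 : θ y = θ x := congrArg (fun d => d.1.1) hy
    have h2 : θ' y = θ' 0 := congrArg (fun d => d.1.2) hy
    rw [theta_zero X'.add] at h2
    rw [X'.inj y h2, theta_zero X.add] at h1
    exact X.inj x h1.symm
  · obtain ⟨d, rfl⟩ := QuotientGroup.mk_surjective g
    rw [bpi_mk]
    constructor
    · intro h
      obtain ⟨x, hx⟩ := (X.ker _).1 h
      obtain ⟨y, hy⟩ := (X'.ker d.1.2).1 (by rw [← mem_fib.1 d.2, h])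
      exact ⟨x + y, by rw [← mk_tt]; exact congrArg _ (Subtype.ext (Prod.ext hx hy))⟩
    · rintro ⟨x, hx⟩
      rw [← bpi_mk X X', ← hx, bpi_mk]
      exact X.pi_theta x
  · obtain ⟨g, hg⟩ := X.surj σ
    obtain ⟨g', hg'⟩ := X'.surj σ
    exact ⟨((⟨(g, g'), by rw [mem_fib, hg, hg']⟩ : fib π π') : fib π π' ⧸ diag X X'), hg⟩
  · obtain ⟨d, rfl⟩ := QuotientGroup.mk_surjective g
    have : mv (mat c) 0 = 0 := by funext i; simp [mv]
    rw [← QuotientGroup.mk_mul, tt_conj X X' d c hc hg, this, QuotientGroup.mk_mul]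

theorem equiv_of_split (X : Ext mat π θ) (X' : Ext mat π' θ') (h : Split (bpi X X')) : Nonempty (E ≃* E') := by
  obtain ⟨H, h1, h2⟩ := h
  set K := H.comap (QuotientGroup.mk' (diag X X')) with hK
  have inj : ∀ d ∈ K, π d.1.1 = 1 → ∃ x, tt X X' x x = d := by
    intro d hd e
    have : (d : fib π π' ⧸ diag X X') ∈ H ⊓ (bpi X X').ker := ⟨hd, e⟩
    rw [h1, Subgroup.mem_bot, QuotientGroup.eq_one_iff] at this
    exact this
  have sur : ∀ d : fib π π', ∃ x, ∀ u v, u + v = x → tt X X' u v * d ∈ K := by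
    intro d
    have : (d : fib π π' ⧸ diag X X') ∈ (((bpi X X').ker ⊔ H : Subgroup _) : Set _) := by rw [sup_comm, h2]; trivial
    rw [Subgroup.normal_mul] at this
    obtain ⟨a, ha, b, hb, e⟩ := this
    obtain ⟨x, rfl⟩ := ((baer X X').ker a).1 ha
    refine ⟨x, fun u v huv => ?_⟩
    show ((tt X X' u v * d : fib π π') : fib π π' ⧸ diag X X') ∈ H
    rw [QuotientGroup.mk_mul, mk_tt, huv, ← e]
    simp only
    rwa [← mul_assoc, ← QuotientGroup.mk_mul, ← tt_add, vec_add_self, vec_add_self, tt_zero, QuotientGroup.mk_one,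
      one_mul]
  let f1 : K →* E := (MonoidHom.fst E E').comp ((fib π π').subtype.comp K.subtype)
  let f2 : K →* E' := (MonoidHom.snd E E').comp ((fib π π').subtype.comp K.subtype)
  have b1 : Function.Bijective f1 := by
    refine ⟨(injective_iff_map_eq_one _).2 fun d hd => ?_, fun g => ?_⟩
    · have hd' : d.1.1.1 = 1 := hd
      obtain ⟨x, hx⟩ := inj d.1 d.2 (by rw [hd', map_one])
      have : θ x = d.1.1.1 := congrArg (fun d => d.1.1) hx
      rw [X.inj x (this.trans hd'), tt_zero] at hx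
      exact Subtype.ext hx.symm
    · obtain ⟨g', hg'⟩ := X'.surj (π g)
      obtain ⟨x, hx⟩ := sur ⟨(g, g'), by rw [mem_fib, hg']⟩
      refine ⟨⟨_, hx 0 x (zero_add x)⟩, ?_⟩
      show θ 0 * g = g
      rw [theta_zero X.add, one_mul]
  have b2 : Function.Bijective f2 := by
    refine ⟨(injective_iff_map_eq_one _).2 fun d hd => ?_, fun g' => ?_⟩
    · have hd' : d.1.1.2 = 1 := hd
      obtain ⟨x, hx⟩ := inj d.1 d.2 (by rw [mem_fib.1 d.1.2, hd', map_one])
      have : θ' x = d.1.1.2 := congrArg (fun d => d.1.2) hx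
      rw [X'.inj x (this.trans hd'), tt_zero] at hx
      exact Subtype.ext hx.symm
    · obtain ⟨g, hg⟩ := X.surj (π' g')
      obtain ⟨x, hx⟩ := sur ⟨(g, g'), by rw [mem_fib, hg]⟩
      refine ⟨⟨_, hx x 0 (add_zero x)⟩, ?_⟩
      show θ' 0 * g' = g'
      rw [theta_zero X'.add, one_mul]
  exact ⟨(MulEquiv.ofBijective f1 b1).symm.trans (MulEquiv.ofBijective f2 b2)⟩

theorem equiv_of_nonsplit [Finite E] [Finite E'] (X : Ext matC π θ) (X' : Ext matC π' θ') (h : ¬ Split π)
    (h' : ¬ Split π') : Nonempty (E ≃* E') := by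
  refine equiv_of_split X X' ?_
  obtain ⟨γ, hγ⟩ := (baer X X').exists_lift
  choose d hd using fun k => QuotientGroup.mk_surjective (γ k)
  obtain rfl : γ = fun k => (d k : fib π π' ⧸ diag X X') := funext fun k => (hd k).symm
  have l1 : IsLift π fun k => (d k).1.1 := hγ
  have l2 : IsLift π' fun k => (d k).1.2 := fun k hk => by rw [← mem_fib.1 (d k).2]; exact hγ k hk
  obtain ⟨τ, hR⟩ := X.exists_rule l1
  obtain ⟨τ', hR'⟩ := X'.exists_rule l2
  have hR2 : Rule (fun x => (tt X X' x 0 : fib π π' ⧸ diag X X')) (fun k => (d k : fib π π' ⧸ diag X X'))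
      (τ + τ') RR := by
    intro j hj i hi
    have e : d j * d i = tt X X' (τ (rel j i)) (τ' (rel j i)) * val d (sl RR 7 (rel j i)) := by
      refine Subtype.ext (Prod.ext ?_ ?_)
      · refine (hR j hj i hi).trans ?_
        exact congrArg (θ _ * ·) (map_val ((MonoidHom.fst E E').comp (fib π π').subtype) d _).symm
      · refine (hR' j hj i hi).trans ?_
        exact congrArg (θ' _ * ·) (map_val ((MonoidHom.snd E E').comp (fib π π').subtype) d _).symm
    simp only
    rw [← QuotientGroup.mk_mul, e, QuotientGroup.mk_mul, mk_tt]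
    exact congrArg (_ * ·) (map_val (QuotientGroup.mk' (diag X X')) d _)
  rw [(baer X X').split_iff hγ hR2, lf_add, H15.zmod2_ne_zero.1 (mt (X.split_iff l1 hR).2 h),
    H15.zmod2_ne_zero.1 (mt (X'.split_iff l2 hR').2 h')]
  rfl

end H8.Coh
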