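import Cfsg.Agent.Base
import Cfsg.Agent.Lib.CGT.Net

/-! A collector with symbolic tails in an 11-dimensional module over `ZMod 2`, for a polycyclic presentation
on seven letters. -/

set_option autoImplicit false

namespace H8.Coh

open H54

abbrev Vec := Fin 11 → ZMod 2

def bz (m k : ℕ) : ZMod 2 := if m.testBit k then 1 else 0

theorem bz_xor (a b k : ℕ) : bz (a ^^^ b) k = bz a k + bz b k := by
  unfold bz
  rw [Nat.testBit_xor]
  cases a.testBit k <;> cases b.testBit k <;> decide

theorem bz_zero (k : ℕ) : bz 0 k = 0 := by simp [bz]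

theorem bz_of_lt {a k n : ℕ} (h : a < 2 ^ n) (hk : n ≤ k) : bz a k = 0 := by
  unfold bz
  rw [Nat.testBit_lt_two_pow (lt_of_lt_of_le h (Nat.pow_le_pow_right (by norm_num) hk))]
  rfl

theorem vec_add_self (x : Vec) : x + x = 0 := by
  funext i; exact CharTwo.add_self_eq_zero _

/-- a matrix, packed by rows, applied to a vector -/
def mv (M : ℕ) (x : Vec) : Vec := fun i => ∑ j : Fin 11, bz M (11 * i + j) * x j

theorem mv_add (M : ℕ) (x y : Vec) : mv M (x + y) = mv M x + mv M y := by
  funext i; simp [mv, mul_add, Finset.sum_add_distrib]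

/-- a linear form in the unknown tails -/
def lf (τ : ℕ → Vec) (x : ℕ) : ZMod 2 := ∑ r ∈ Finset.range 64, ∑ j : Fin 11, bz x (121 * r + j) * τ r j

/-- a vector of linear forms in the unknown tails -/
def sym (τ : ℕ → Vec) (L : ℕ) : Vec := fun i => lf τ (L >>> (11 * (i : ℕ)))

theorem lf_zero (τ : ℕ → Vec) : lf τ 0 = 0 := by simp [lf, bz_zero]

theorem lf_xor (τ : ℕ → Vec) (a b : ℕ) : lf τ (a ^^^ b) = lf τ a + lf τ b := by
  simp [lf, bz_xor, add_mul, Finset.sum_add_distrib]

theorem lf_add (τ τ' : ℕ → Vec) (a : ℕ) : lf (τ + τ') a = lf τ a + lf τ' a := by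
  simp [lf, mul_add, Finset.sum_add_distrib]

theorem lf_congr {τ τ' : ℕ → Vec} {n x : ℕ} (h : ∀ r < n, τ r = τ' r) (hx : x < 2 ^ (121 * n)) :
    lf τ x = lf τ' x := by
  refine Finset.sum_congr rfl fun r _ => Finset.sum_congr rfl fun j _ => ?_
  by_cases hr : r < n
  · rw [h r hr]
  · rw [bz_of_lt hx (by omega), zero_mul, zero_mul]

theorem sym_zero (τ : ℕ → Vec) : sym τ 0 = 0 := by
  funext i; simp [sym, lf_zero]

theorem sym_xor (τ : ℕ → Vec) (a b : ℕ) : sym τ (a ^^^ b) = sym τ a + sym τ b := by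
  funext i; simp [sym, Nat.shiftRight_xor_distrib, lf_xor]

theorem sym_congr {τ τ' : ℕ → Vec} {n x : ℕ} (h : ∀ r < n, τ r = τ' r) (hx : x < 2 ^ (121 * n)) :
    sym τ x = sym τ' x := by
  funext i
  exact lf_congr h (lt_of_le_of_lt (Nat.shiftRight_le _ _) hx)

theorem sym_shift (τ : ℕ → Vec) {M r : ℕ} (hM : M < 2 ^ 121) (hr : r < 64) :
    sym τ (M <<< (121 * r)) = mv M (τ r) := by
  funext i
  unfold sym lf mv
  rw [Finset.sum_eq_single r]
  · refine Finset.sum_congr rfl fun j _ => ?_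
    congr 1
    unfold bz
    rw [Nat.testBit_shiftRight, Nat.testBit_shiftLeft]
    have : 11 * (i : ℕ) + (121 * r + j) - 121 * r = 11 * i + j := by omega
    rw [this]; simp [show 121 * r ≤ 11 * (i : ℕ) + (121 * r + j) by omega]
  · intro r' _ hne
    refine Finset.sum_eq_zero fun j _ => ?_
    have : bz (M <<< (121 * r) >>> (11 * (i : ℕ))) (121 * r' + j) = 0 := by
      unfold bz
      rw [Nat.testBit_shiftRight, Nat.testBit_shiftLeft]
      have hi := i.2
      have hj := j.2
      rcases lt_or_gt_of_ne hne with h | h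
      · simp [show ¬ 121 * r ≤ 11 * (i : ℕ) + (121 * r' + j) by omega]
      · rw [Nat.testBit_lt_two_pow (lt_of_lt_of_le hM (Nat.pow_le_pow_right (by norm_num) (by omega)))]
        simp
    rw [this, zero_mul]
  · intro h; exact absurd (Finset.mem_range.2 hr) h

/-- the bits of a row that carry unknowns -/
@[irreducible] def msk : ℕ := (2 ^ 7744 - 1) / (2 ^ 121 - 1) * 2047

/-- `∀ i < n, f i` -/
noncomputable def al (n : ℕ) (f : ℕ → Bool) : Bool := allLt f n

theorem al_iff {n : ℕ} {f : ℕ → Bool} : al n f = true ↔ ∀ i < n, f i = true := allLt_iff f n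

theorem msk_check : al 64 (fun r => al 11 fun j => tb msk (121 * r + j)) = true := by decide +kernel

theorem lf_msk (τ : ℕ → Vec) (x : ℕ) : lf τ (x &&& msk) = lf τ x := by
  refine Finset.sum_congr rfl fun r hr => Finset.sum_congr rfl fun j _ => ?_
  have h := al_iff.1 (al_iff.1 msk_check r (Finset.mem_range.1 hr)) j j.2
  rw [tb_eq] at h
  unfold bz
  rw [Nat.testBit_and, h, Bool.and_true]

/-- slot `m` of width `w` of the table `T` -/
def sl (T w m : ℕ) : ℕ := Nat.mod (Nat.shiftRight T (Nat.mul w m)) (Nat.shiftLeft 1 w)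

theorem sl_lt (T w m : ℕ) : sl T w m < 2 ^ w := by
  show (T >>> (w * m)) % (1 <<< w) < _
  rw [Nat.one_shiftLeft]
  exact Nat.mod_lt _ (by positivity)

section Words

variable {M : Type*} [Monoid M]

/-- the increasing word with letter set `m`, among the first `n` letters -/
def valN (γ : ℕ → M) (m : ℕ) : ℕ → M
  | 0 => 1
  | n + 1 => if m.testBit n then valN γ m n * γ n else valN γ m n

def val (γ : ℕ → M) (m : ℕ) : M := valN γ m 7

def ev (γ : ℕ → M) (w : List ℕ) : M := (w.map γ).prod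

@[simp] theorem ev_nil (γ : ℕ → M) : ev γ [] = 1 := rfl
@[simp] theorem ev_cons (γ : ℕ → M) (a : ℕ) (w : List ℕ) : ev γ (a :: w) = γ a * ev γ w := by simp [ev]

theorem valN_congr (γ : ℕ → M) {m m' : ℕ} : ∀ n, (∀ k < n, m.testBit k = m'.testBit k) → valN γ m n = valN γ m' n
  | 0, _ => rfl
  | n + 1, h => by
    rw [valN, valN, h n (by omega), valN_congr γ n fun k hk => h k (by omega)]

theorem valN_zero (γ : ℕ → M) : ∀ n, valN γ 0 n = 1
  | 0 => rfl
  | n + 1 => by rw [valN, valN_zero γ n]; simp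

@[simp] theorem val_zero (γ : ℕ → M) : val γ 0 = 1 := valN_zero γ 7

theorem valN_push (γ : ℕ → M) {m i : ℕ} (h : m < 2 ^ i) :
    ∀ n, i < n → valN γ (m ^^^ 2 ^ i) n = valN γ m n * γ i := by
  intro n hn
  induction n with
  | zero => omega
  | succ n ih =>
    have hm : m.testBit n = false :=
      Nat.testBit_lt_two_pow (lt_of_lt_of_le h (Nat.pow_le_pow_right (by norm_num) (by omega)))
    rw [valN, valN, Nat.testBit_xor, hm, Nat.testBit_two_pow]
    by_cases hi : i = n
    · subst hi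
      simp only [decide_true, Bool.false_xor, if_true, Bool.false_eq_true, if_false]
      rw [valN_congr γ (m' := m) i]
      intro k hk
      rw [Nat.testBit_xor, Nat.testBit_two_pow]; simp [show i ≠ k by omega]
    · simp only [hi, decide_false, Bool.false_xor, Bool.false_eq_true, if_false]
      exact ih (by omega)

theorem val_push (γ : ℕ → M) {m i : ℕ} (h : m < 2 ^ i) (hi : i < 7) : val γ (m ^^^ 2 ^ i) = val γ m * γ i :=
  valN_push γ h 7 hi

theorem val_pow (γ : ℕ → M) {i : ℕ} (hi : i < 7) : val γ (2 ^ i) = γ i := by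
  have := val_push γ (m := 0) (by positivity) hi
  simpa using this

theorem map_valN {M' : Type*} [Monoid M'] (f : M →* M') (γ : ℕ → M) (m : ℕ) :
    ∀ n, f (valN γ m n) = valN (fun k => f (γ k)) m n
  | 0 => map_one f
  | n + 1 => by
    rw [valN, valN]; split_ifs
    · rw [map_mul, map_valN f γ m n]
    · exact map_valN f γ m n

theorem map_val {M' : Type*} [Monoid M'] (f : M →* M') (γ : ℕ → M) (m : ℕ) :
    f (val γ m) = val (fun k => f (γ k)) m := map_valN f γ m 7

theorem valN_congr' {γ γ' : ℕ → M} (m : ℕ) : ∀ n, (∀ k < n, γ k = γ' k) → valN γ m n = valN γ' m n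
  | 0, _ => rfl
  | n + 1, h => by
    rw [valN, valN, h n (by omega), valN_congr' m n fun k hk => h k (by omega)]

theorem val_congr {γ γ' : ℕ → M} (h : ∀ k < 7, γ k = γ' k) (m : ℕ) : val γ m = val γ' m := valN_congr' m 7 h

theorem valN_mem {G : Type*} [Group G] {γ : ℕ → G} {H : Subgroup G} (m : ℕ) :
    ∀ n, (∀ k < n, γ k ∈ H) → valN γ m n ∈ H
  | 0, _ => H.one_mem
  | n + 1, h => by
    have := valN_mem (γ := γ) (H := H) m n fun k hk => h k (by omega)
    rw [valN]; split_ifs
    · exact H.mul_mem this (h n (by omega))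
    · exact this

theorem val_mem {G : Type*} [Group G] {γ : ℕ → G} {H : Subgroup G} (h : ∀ k < 7, γ k ∈ H) (m : ℕ) :
    val γ m ∈ H := valN_mem m 7 h

/-- the letters of `m` put in front of a word -/
noncomputable def pushN (m n : ℕ) : List ℕ → List ℕ :=
  Nat.rec (motive := fun _ => List ℕ → List ℕ) (fun w => w) (fun k ih w => ih (sel (tb m k) (k :: w) w)) n

noncomputable def push (m : ℕ) (w : List ℕ) : List ℕ := pushN m 7 w

theorem ev_pushN (γ : ℕ → M) (m : ℕ) : ∀ n w, ev γ (pushN m n w) = valN γ m n * ev γ w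
  | 0, w => by simp [pushN, valN]
  | n + 1, w => by
    have : pushN m (n + 1) w = pushN m n (sel (tb m n) (n :: w) w) := rfl
    rw [this, ev_pushN γ m n, valN, tb_eq, sel_eq]
    split_ifs
    · rw [ev_cons, mul_assoc]
    · rfl

theorem ev_push (γ : ℕ → M) (m : ℕ) (w : List ℕ) : ev γ (push m w) = val γ m * ev γ w := ev_pushN γ m 7 w

/-- concatenation of the words in the slots of `A` named by `ρ` -/
noncomputable def flat (A : ℕ) (ρ : List ℕ) : List ℕ :=
  List.rec (motive := fun _ => List ℕ) [] (fun k _ ih => force (sl A 7 k) fun a => push a ih) ρ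

theorem ev_flat (γ : ℕ → M) (A : ℕ) : ∀ ρ, ev γ (flat A ρ) = ev (fun k => val γ (sl A 7 k)) ρ
  | [] => rfl
  | k :: ρ => by
    have : flat A (k :: ρ) = push (sl A 7 k) (flat A ρ) := rfl
    rw [this, ev_push, ev_flat γ A ρ, ev_cons]

end Words

/-- index of the relation for the product of the letters `j` and `i` -/
def rel (j i : ℕ) : ℕ := Nat.add (Nat.shiftRight (Nat.mul j (Nat.succ j)) 1) i

theorem rel_lt : ∀ j < 7, ∀ i ≤ j, rel j i < 28 := by decide

def rj (r : ℕ) : ℕ := [0, 1, 1, 2, 2, 2, 3, 3, 3, 3, 4, 4, 4, 4, 4, 5, 5, 5, 5, 5, 5, 6, 6, 6, 6, 6, 6, 6].getD r 0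
def ri (r : ℕ) : ℕ := [0, 0, 1, 0, 1, 2, 0, 1, 2, 3, 0, 1, 2, 3, 4, 0, 1, 2, 3, 4, 5, 0, 1, 2, 3, 4, 5, 6].getD r 0

theorem rj_rel : ∀ j < 7, ∀ i ≤ j, rj (rel j i) = j ∧ ri (rel j i) = i := by decide

noncomputable def top (m : ℕ) : ℕ := Nat.rec (motive := fun _ => ℕ) 0 (fun k ih => sel (tb m k) k ih) 7

/-- collection of the word `w` onto the normal word `m`; `L` accumulates the tails -/
noncomputable def run (R T : ℕ) (k : ℕ → ℕ → Bool) (fuel : ℕ) : ℕ → ℕ → List ℕ → Bool :=
  Nat.rec (motive := fun _ => ℕ → ℕ → List ℕ → Bool) (fun _ _ _ => false)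
    (fun _ ih m L w => List.rec (motive := fun _ => Bool) (k m L)
      (fun i w' _ => sel (Nat.beq (Nat.shiftRight m i) 0)
        (band (Nat.ble i 6) (force (Nat.xor m (Nat.shiftLeft 1 i)) fun m' => ih m' L w'))
        (force (top m) fun j => force (Nat.xor m (Nat.shiftLeft 1 j)) fun m' =>
          band (band (Nat.beq (Nat.shiftRight m' j) 0) (band (Nat.ble i j) (Nat.ble j 6)))
            (force (rel j i) fun r => force (sl R 7 r) fun a =>
              force (Nat.xor L (Nat.shiftLeft (sl T 121 m') (Nat.mul 121 r))) fun L' =>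
                ih m' L' (push a w')))) w) fuel

/-- collection of a word in the elements `θ (τ (off + k)) * val (B k)` -/
noncomputable def runB (R T B off fuel : ℕ) (k : ℕ → ℕ → Bool) (ρ : List ℕ) : ℕ → ℕ → Bool :=
  List.rec (motive := fun _ => ℕ → ℕ → Bool) k
    (fun x _ ih m L => band (band (Nat.ble m 127) (Nat.ble (Nat.add off x) 63))
      (force (Nat.xor L (Nat.shiftLeft (sl T 121 m) (Nat.mul 121 (Nat.add off x)))) fun L' =>
        force (sl B 7 x) fun b => run R T ih fuel m L' (push b []))) ρ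

section Sound

variable {E : Type*} [Group E] {θ : Vec → E} {γ : ℕ → E} {τ : ℕ → Vec} {R T : ℕ} {p : E}

/-- the relations of the lifted generators -/
def Rule (θ : Vec → E) (γ : ℕ → E) (τ : ℕ → Vec) (R : ℕ) : Prop :=
  ∀ j < 7, ∀ i ≤ j, γ j * γ i = θ (τ (rel j i)) * val γ (sl R 7 (rel j i))

/-- the table of the action of `p * val m` -/
def Tab (θ : Vec → E) (γ : ℕ → E) (p : E) (T : ℕ) : Prop :=
  ∀ m < 128, ∀ x, p * val γ m * θ x = θ (mv (sl T 121 m) x) * (p * val γ m)

theorem lt_of_shr {m i : ℕ} (h : Nat.beq (Nat.shiftRight m i) 0 = true) : m < 2 ^ i := by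
  rw [Nat.beq_eq] at h
  have h' : m >>> i = 0 := h
  rw [Nat.shiftRight_eq_div_pow] at h'
  exact (Nat.div_eq_zero_iff_lt (by positivity)).1 h'

theorem run_spec (add : ∀ x y, θ (x + y) = θ x * θ y) (hR : Rule θ γ τ R) (hT : Tab θ γ p T)
    (k : ℕ → ℕ → Bool) : ∀ (fuel m L : ℕ) (w : List ℕ), run R T k fuel m L w = true →
    ∃ m' L', k m' L' = true ∧ θ (sym τ L) * (p * val γ m) * ev γ w = θ (sym τ L') * (p * val γ m') := by
  intro fuel
  induction fuel with
  | zero => intro m L w h; exact absurd h (by simp [run])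
  | succ fuel ih =>
    intro m L w h
    cases w with
    | nil => exact ⟨m, L, h, by simp⟩
    | cons i w =>
      have h' : sel (Nat.beq (Nat.shiftRight m i) 0)
        (band (Nat.ble i 6) (run R T k fuel (m ^^^ 1 <<< i) L w))
        (band (band (Nat.beq (Nat.shiftRight (m ^^^ 1 <<< top m) (top m)) 0)
          (band (Nat.ble i (top m)) (Nat.ble (top m) 6)))
          (run R T k fuel (m ^^^ 1 <<< top m) (L ^^^ sl T 121 (m ^^^ 1 <<< top m) <<< (121 * rel (top m) i))
            (push (sl R 7 (rel (top m) i)) w))) = true := h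
      rw [sel_eq] at h'
      split_ifs at h' with h0
      · rw [band_eq_true, Nat.ble_eq, Nat.one_shiftLeft] at h'
        obtain ⟨m', L', h1, h2⟩ := ih _ _ _ h'.2
        refine ⟨m', L', h1, ?_⟩
        rw [← h2, val_push γ (lt_of_shr h0) (by omega), ev_cons]
        simp only [mul_assoc]
      · simp only [band_eq_true, Nat.ble_eq, Nat.one_shiftLeft] at h'
        obtain ⟨⟨a1, a2, a3⟩, a4⟩ := h'
        generalize top m = j at a1 a2 a3 a4
        obtain ⟨m', L', h1, h2⟩ := ih _ _ _ a4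
        refine ⟨m', L', h1, ?_⟩
        have hlt := lt_of_shr a1
        have hm : val γ m = val γ (m ^^^ 2 ^ j) * γ j := by
          rw [← val_push γ hlt (by omega), Nat.xor_assoc, Nat.xor_self, Nat.xor_zero]
        have h128 : m ^^^ 2 ^ j < 128 :=
          lt_of_lt_of_le hlt (le_trans (Nat.pow_le_pow_right (by norm_num) a3) (by norm_num))
        have hr := rel_lt j (by omega) i a2
        rw [← h2, sym_xor, add, sym_shift τ (sl_lt _ _ _) (by omega), ev_push, ev_cons, hm, mul_assoc (θ (sym τ L)),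
          mul_assoc (θ (sym τ L)), mul_assoc (θ (sym τ L)), ← hT _ h128]
        congr 1
        simp only [mul_assoc]
        rw [← mul_assoc (γ j), hR j (by omega) i a2, mul_assoc]

theorem runB_spec (add : ∀ x y, θ (x + y) = θ x * θ y) (hR : Rule θ γ τ R) (hT : Tab θ γ 1 T) (B off fuel : ℕ)
    (k : ℕ → ℕ → Bool) : ∀ (ρ : List ℕ) (m L : ℕ), runB R T B off fuel k ρ m L = true →
    ∃ m' L', k m' L' = true ∧
      θ (sym τ L) * val γ m * ev (fun x => θ (τ (off + x)) * val γ (sl B 7 x)) ρ = θ (sym τ L') * val γ m' := by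
  intro ρ
  induction ρ with
  | nil => intro m L h; exact ⟨m, L, h, by simp⟩
  | cons x ρ ih =>
    intro m L h
    have h' : band (band (Nat.ble m 127) (Nat.ble (off + x) 63))
      (run R T (runB R T B off fuel k ρ) fuel m (L ^^^ sl T 121 m <<< (121 * (off + x))) (push (sl B 7 x) [])) = true := h
    simp only [band_eq_true, Nat.ble_eq] at h'
    obtain ⟨m1, L1, h1, h2⟩ := run_spec add hR hT _ _ _ _ _ h'.2
    obtain ⟨m', L', h3, h4⟩ := ih _ _ h1
    refine ⟨m', L', h3, ?_⟩
    have h5 := hT m (by omega) (τ (off + x))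
    rw [one_mul] at h5
    rw [one_mul, one_mul, sym_xor, add, sym_shift τ (sl_lt _ _ _) (by omega), ev_push, ev_nil, mul_one,
      mul_assoc (θ (sym τ L)), ← h5] at h2
    rw [← h4, ← h2, ev_cons]
    simp only [mul_assoc]

end Sound

/-- the eleven rows of `L`, put in front of `acc` -/
noncomputable def rowsK (L : ℕ) (k : List ℕ → Bool) (n : ℕ) : List ℕ → Bool :=
  Nat.rec (motive := fun _ => List ℕ → Bool) k
    (fun i ih acc => force (Nat.land (Nat.shiftRight L (Nat.mul 11 i)) msk) fun x => ih (x :: acc)) n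

/-- all rows vanish -/
def AllZ (τ : ℕ → Vec) (l : List ℕ) : Prop := ∀ x ∈ l, lf τ x = 0

theorem rowsK_spec {τ : ℕ → Vec} {L : ℕ} (hL : sym τ L = 0) (k : List ℕ → Bool) :
    ∀ n ≤ 11, ∀ acc, AllZ τ acc → rowsK L k n acc = true → ∃ l, AllZ τ l ∧ k l = true := by
  intro n
  induction n with
  | zero => intro _ acc ha h; exact ⟨acc, ha, h⟩
  | succ n ih =>
    intro hn acc ha h
    have h' : rowsK L k n ((L >>> (11 * n) &&& msk) :: acc) = true := h
    refine ih (by omega) _ ?_ h'
    intro x hx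
    rcases List.mem_cons.1 hx with rfl | hx
    · rw [lf_msk]; exact congrFun hL ⟨n, by omega⟩
    · exact ha x hx

/-- the sum of the rows selected by `s` -/
noncomputable def comb (l : List ℕ) : ℕ → ℕ → ℕ :=
  List.rec (motive := fun _ => ℕ → ℕ → ℕ) (fun _ a => a)
    (fun x _ ih s a => force (Nat.shiftRight s 1) fun s' =>
      sel (tb s 0) (force (Nat.xor a x) fun a' => ih s' a') (ih s' a)) l

theorem lf_comb {τ : ℕ → Vec} : ∀ (l : List ℕ), AllZ τ l → ∀ s a, lf τ (comb l s a) = lf τ a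
  | [], _, _, _ => rfl
  | x :: l, h, s, a => by
    have : comb (x :: l) s a = sel (tb s 0) (comb l (s >>> 1) (a ^^^ x)) (comb l (s >>> 1) a) := rfl
    have hl : AllZ τ l := fun y hy => h y (List.mem_cons_of_mem _ hy)
    rw [this, sel_eq]
    split_ifs
    · rw [lf_comb l hl, lf_xor, h x List.mem_cons_self, add_zero]
    · exact lf_comb l hl _ _

/-- the rows of `L` are sums of rows of `l`, as told by the slots `11 * r + i` of `X` -/
noncomputable def inSpan (l : List ℕ) (X w r L : ℕ) : Bool :=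
  al 11 fun i => force (sl X w (Nat.add (Nat.mul 11 r) i)) fun s =>
    Nat.beq (comb l s (Nat.land (Nat.shiftRight L (Nat.mul 11 i)) msk)) 0

theorem inSpan_spec {τ : ℕ → Vec} {l : List ℕ} (hl : AllZ τ l) {X w r L : ℕ} (h : inSpan l X w r L = true) :
    sym τ L = 0 := by
  funext i
  have h1 := al_iff.1 h i i.2
  have h2 : comb l (sl X w (11 * r + i)) (L >>> (11 * (i : ℕ)) &&& msk) = 0 := Nat.beq_eq ▸ h1
  have h3 := lf_comb l hl (sl X w (11 * r + i)) (L >>> (11 * (i : ℕ)) &&& msk)
  rw [h2, lf_zero, lf_msk] at h3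
  exact h3.symm

end H8.Coh
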