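import Cfsg.Agent.Lib.Coh8.Col
import Cfsg.Agent.Lib.Golay.Mathieu
import Cfsg.Agent.Lib.Core.CrossedHom

/-! Extensions of M23 by an 11-dimensional module over `ZMod 2`: splitting criteria read off a Sylow 2-subgroup. -/

set_option autoImplicit false

namespace H8.Coh

open H54 Cfsg
open H15 (okP permOf mulP idP Good inM24 ap)

/-- an extension of M23 by the module whose matrices are given by `mat` -/
structure Ext (mat : ℕ → ℕ) {E : Type*} [Group E] (π : E →* Spor.M23) (θ : Vec → E) : Prop where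
  add : ∀ x y, θ (x + y) = θ x * θ y
  inj : ∀ x, θ x = 1 → x = 0
  ker : ∀ g, π g = 1 ↔ ∃ x, θ x = g
  surj : Function.Surjective π
  conj : ∀ g c, okP c = true → (π g : Equiv.Perm GolayPt) = permOf c → ∀ x, g * θ x = θ (mv (mat c) x) * g

def Split {E : Type*} [Group E] (π : E →* Spor.M23) : Prop := ∃ H : Subgroup E, H ⊓ π.ker = ⊥ ∧ H ⊔ π.ker = ⊤

noncomputable def sc (k : ℕ) : ℕ := nth [980553702694799914099598388888110176, 973616887347613659239236207251626528,
  956990847961290993235685537128528352, 980924132068208647414064372895658016, 960681970177759310721545971736790112,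
  964819629591404135287417151862217248, 975568990542510601383932054293655808] k
noncomputable def hc (f : ℕ) : ℕ := nth [960842021853297467750287424333685280, 965057939553099824614087420103723136,
  974326603594853755110468807537396976, 967943061867697167667550076567734304] f
def RR : ℕ := 0x182848890a08060a1262c302c54a4c406c15260162b005a8
noncomputable def FA (f : ℕ) : ℕ := nth [2207646875909, 2207646876163, 2207646876163, 17247109393] f
noncomputable def FB (f : ℕ) : ℕ := nth [2231357708415, 1116918445503, 1125297821172, 19434440834] f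
def B0 : ℕ := 282578800148737
def idM : ℕ := 1329552593586084350528447794605199361

theorem mv_idM (x : Vec) : mv idM x = x := by
  funext i
  have : ∀ i j : Fin 11, bz idM (11 * i + j) = if i = j then 1 else 0 := by decide +kernel
  simp [mv, this]

theorem sl_B0 : ∀ k < 7, sl B0 7 k = 2 ^ k := by decide +kernel

noncomputable def valPN (p m n : ℕ) : ℕ :=
  Nat.rec (motive := fun _ => ℕ) p (fun k ih => sel (tb m k) (force ih fun c => mulP c (sc k)) ih) n

/-- the code of `p * val m` -/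
noncomputable def valP (p m : ℕ) : ℕ := valPN p m 7

theorem sc_check : al 7 (fun k => band (inM24 (sc k)) (Nat.beq (ap (sc k) 23) 23)) = true := by decide +kernel
theorem hc_check : al 4 (fun k => band (inM24 (hc k)) (Nat.beq (ap (hc k) 23) 23)) = true := by decide +kernel
theorem rel_check : al 7 (fun j => al (j + 1) fun i =>
    Nat.beq (mulP (sc j) (sc i)) (valP idP (sl RR 7 (rel j i)))) = true := by decide +kernel
theorem fus_check : al 4 (fun f => al 7 fun k =>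
    Nat.beq (valP (hc f) (sl (FA f) 7 k)) (force (valP idP (sl (FB f) 7 k)) fun c => mulP c (hc f))) = true := by
  decide +kernel

noncomputable def codes : ℕ := Nat.rec (motive := fun _ => ℕ → ℕ) (fun a => a)
  (fun k ih a => force (Nat.add (Nat.shiftLeft a 120) (valP idP k)) ih) 128 0

theorem dist_check : force codes (fun P => band (al 128 fun m => Nat.beq (sl P 120 m) (valP idP m))
    (al 128 fun m => force (sl P 120 m) fun c => al m fun m' => Bool.not (Nat.beq (sl P 120 m') c))) = true := by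
  decide +kernel

theorem good_sc {k : ℕ} (h : k < 7) : Good Spor.M23 (sc k) := by
  have := al_iff.1 sc_check k h
  rw [band_eq_true, Nat.beq_eq] at this
  exact H15.good_M23 this.1 this.2

theorem good_hc {k : ℕ} (h : k < 4) : Good Spor.M23 (hc k) := by
  have := al_iff.1 hc_check k h
  rw [band_eq_true, Nat.beq_eq] at this
  exact H15.good_M23 this.1 this.2

theorem valPN_spec {p : ℕ} (hp : okP p = true) (m : ℕ) : ∀ n ≤ 7, okP (valPN p m n) = true ∧
    permOf (valPN p m n) = permOf p * valN (fun k => permOf (sc k)) m n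
  | 0, _ => ⟨hp, (mul_one _).symm⟩
  | n + 1, h => by
    obtain ⟨a, b⟩ := valPN_spec hp m n (by omega)
    have : valPN p m (n + 1) = sel (tb m n) (mulP (valPN p m n) (sc n)) (valPN p m n) := rfl
    rw [this, valN, tb_eq, sel_eq]
    split_ifs
    · exact ⟨H15.okP_mulP a (good_sc (by omega)).1, by rw [H15.permOf_mulP a (good_sc (by omega)).1, b, mul_assoc]⟩
    · exact ⟨a, b⟩

theorem valP_spec {p : ℕ} (hp : okP p = true) (m : ℕ) : okP (valP p m) = true ∧
    permOf (valP p m) = permOf p * val (fun k => permOf (sc k)) m := valPN_spec hp m 7 le_rfl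

theorem valP_id (m : ℕ) : permOf (valP idP m) = val (fun k => permOf (sc k)) m := by
  rw [(valP_spec H15.okP_idP m).2, H15.permOf_idP, one_mul]

theorem val_sc_inj {m m' : ℕ} (hm : m < 128) (hm' : m' < 128)
    (h : val (fun k => permOf (sc k)) m = val (fun k => permOf (sc k)) m') : m = m' := by
  have hd := dist_check
  rw [force_eq, band_eq_true] at hd
  generalize codes = P at hd
  have e : ∀ m < 128, sl P 120 m = valP idP m := fun m hm => Nat.beq_eq ▸ al_iff.1 hd.1 m hm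
  have lt : ∀ m < 128, valP idP m < 32 ^ 24 := fun m hm => by rw [← e m hm]; exact sl_lt P 120 m
  rw [← valP_id, ← valP_id] at h
  have h1 := H15.permOf_inj (valP_spec H15.okP_idP m).1 (valP_spec H15.okP_idP m').1 (lt m hm) (lt m' hm') h
  have ne : ∀ a < 128, ∀ b < a, valP idP b ≠ valP idP a := by
    intro a ha b hb hab
    have := al_iff.1 (al_iff.1 hd.2 a ha) b hb
    rw [e a ha, e b (by omega), hab] at this
    simp at this
  rcases lt_trichotomy m m' with h2 | h2 | h2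
  · exact absurd h1 (ne m' hm' m h2)
  · exact h2
  · exact absurd h1.symm (ne m hm m' h2)

noncomputable def tabOk (mat : ℕ → ℕ) (p T : ℕ) : Bool :=
  al 128 fun m => force (valP p m) fun c => Nat.beq (sl T 121 m) (mat c)

/-- `γ` lifts the generators of the Sylow subgroup -/
def IsLift {E : Type*} [Group E] (π : E →* Spor.M23) (γ : ℕ → E) : Prop :=
  ∀ k < 7, (π (γ k) : Equiv.Perm GolayPt) = permOf (sc k)

noncomputable def eqA (R T fuel : ℕ) (a : ℕ × ℕ × ℕ) (k : ℕ → Bool) : Bool :=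
  band (band (Nat.ble a.1 127) (band (Nat.ble a.2.2 a.2.1) (Nat.ble a.2.1 6)))
    (run R T (fun m1 L1 => run R T (fun m2 L2 => band (Nat.beq m1 m2) (force (Nat.xor L1 L2) k)) fuel a.1
      (Nat.shiftLeft (sl T 121 a.1) (Nat.mul 121 (rel a.2.1 a.2.2))) (push (sl R 7 (rel a.2.1 a.2.2)) []))
      fuel a.1 0 [a.2.1, a.2.2])

noncomputable def halfF (R T TH A B off fuel : ℕ) (ρ : List ℕ) (k : ℕ → ℕ → ℕ → Bool) : Bool :=
  band (allL (fun x => Nat.ble x 6) ρ)
    (run R TH (fun a LA => runB R T B off fuel (fun b LB => force (Nat.xor LA LB) (k a b)) ρ 0 0) fuel 0 0 (flat A ρ))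

noncomputable def eqF (R T : ℕ) (TH : List ℕ) (fuel : ℕ) (a : ℕ × List ℕ × List ℕ) (k : ℕ → Bool) : Bool :=
  band (Nat.ble a.1 3) (force (nth TH a.1) fun th => force (FA a.1) fun A => force (FB a.1) fun B =>
    force (Nat.add 28 (Nat.mul 7 a.1)) fun off =>
      halfF R T th A B off fuel a.2.1 fun a1 b1 L1 => halfF R T th A B off fuel a.2.2 fun a2 b2 L2 =>
        band (band (Nat.beq a1 a2) (Nat.beq b1 b2)) (force (Nat.xor L1 L2) k))

noncomputable def eqC (C : List ℕ) (x : ℕ) (k : ℕ → Bool) : Bool :=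
  band (Nat.ble x 6) (force (Nat.xor (nth C x) (Nat.shiftLeft idM (Nat.mul 121 (Nat.add 56 x)))) k)

noncomputable def eqG (R T fuel : ℕ) (a : ℕ × ℕ) (k : ℕ → Bool) : Bool :=
  band (band (Nat.ble a.2 a.1) (Nat.ble a.1 6))
    (runB R T B0 56 fuel (fun m1 L1 => runB R T B0 56 fuel
      (fun m2 L2 => band (Nat.beq m1 m2) (force (Nat.xor L1 L2) k)) (push (sl R 7 (rel a.1 a.2)) []) 0 0)
      [a.1, a.2] 0 0)

noncomputable def eqsK {α : Type} (e : α → (ℕ → Bool) → Bool) (k : List ℕ → Bool) (l : List α) : List ℕ → Bool :=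
  List.rec (motive := fun _ => List ℕ → Bool) k (fun a _ ih acc => e a fun L => rowsK L ih 11 acc) l

theorem eqsK_spec {α : Type} {τ : ℕ → Vec} {e : α → (ℕ → Bool) → Bool}
    (he : ∀ a k, e a k = true → ∃ L, sym τ L = 0 ∧ k L = true) (k : List ℕ → Bool) :
    ∀ (l : List α) (acc : List ℕ), AllZ τ acc → eqsK e k l acc = true → ∃ l', AllZ τ l' ∧ k l' = true
  | [], acc, ha, h => ⟨acc, ha, h⟩
  | a :: l, acc, ha, h => by
    obtain ⟨L, h1, h2⟩ := he a (fun L => rowsK L (eqsK e k l) 11 acc) h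
    obtain ⟨l1, h3, h4⟩ := rowsK_spec h1 _ 11 le_rfl acc ha h2
    exact eqsK_spec he k l l1 h3 h4

noncomputable def chkA (T : ℕ) (TH : List ℕ) (Λ : ℕ) (lA : List (ℕ × ℕ × ℕ)) (lF : List (ℕ × List ℕ × List ℕ))
    (C : List ℕ) (X w fuel : ℕ) : Bool :=
  band (band (Nat.beq (Nat.shiftRight Λ 3388) 0) (al 7 fun x => Nat.beq (Nat.shiftRight (nth C x) 6776) 0))
    (eqsK (eqA RR T fuel) (eqsK (eqF RR T TH fuel) (eqsK (eqC C) (fun rows =>
      al 7 fun j => al (Nat.succ j) fun i => eqG RR T fuel (j, i) fun L => inSpan rows X w (rel j i) L)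
      [0, 1, 2, 3, 4, 5, 6]) lF) lA [Λ])

noncomputable def chkB (T Λ : ℕ) (lG : List (ℕ × ℕ)) (s fuel : ℕ) : Bool :=
  band (Nat.beq (Nat.shiftRight Λ 3388) 0)
    (eqsK (eqG RR T fuel) (fun rows => Nat.beq (comb rows s Λ) 0) lG [])

theorem clo_check : al 128 (fun m => al 7 fun i => run RR 0 (fun m' _ => Nat.ble m' 127) 99 m 0 [i]) = true := by
  decide +kernel

section Sound

variable {mat : ℕ → ℕ} {E : Type*} [Group E] {π : E →* Spor.M23} {θ : Vec → E} {γ : ℕ → E} {τ : ℕ → Vec}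

theorem theta_zero (add : ∀ x y, θ (x + y) = θ x * θ y) : θ 0 = 1 := by
  have := add 0 0
  rw [add_zero] at this
  exact (mul_eq_left.1 this.symm)

theorem theta_sq (add : ∀ x y, θ (x + y) = θ x * θ y) (x : Vec) : θ x * θ x = 1 := by
  rw [← add, vec_add_self, theta_zero add]

theorem Ext.pi_theta (X : Ext mat π θ) (x : Vec) : π (θ x) = 1 := (X.ker _).2 ⟨x, rfl⟩

theorem Ext.tail (X : Ext mat π θ) {a b : E} (h : (π a : Equiv.Perm GolayPt) = π b) : ∃ x, a = θ x * b := by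
  obtain ⟨x, hx⟩ := (X.ker (a * b⁻¹)).1 (by rw [map_mul, map_inv, Subtype.ext h, mul_inv_cancel])
  exact ⟨x, by rw [hx, inv_mul_cancel_right]⟩

theorem Ext.cancel (X : Ext mat π θ) {x y : Vec} {a : E} (h : θ x * a = θ y * a) : x + y = 0 := by
  apply X.inj
  rw [X.add, mul_right_cancel h, theta_sq X.add]

theorem IsLift.val_eq (h : IsLift π γ) (m : ℕ) :
    (π (val γ m) : Equiv.Perm GolayPt) = val (fun k => permOf (sc k)) m := by
  have := map_val (Spor.M23.subtype.comp π) γ m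
  exact this.trans (val_congr h m)

theorem Ext.tab (X : Ext mat π θ) (h : IsLift π γ) {p T : ℕ} {g : E} (hp : okP p = true)
    (hg : (π g : Equiv.Perm GolayPt) = permOf p) (hT : tabOk mat p T = true) : Tab θ γ g T := by
  intro m hm x
  have h1 : sl T 121 m = mat (valP p m) := Nat.beq_eq ▸ al_iff.1 hT m hm
  rw [h1]
  refine X.conj _ _ (valP_spec hp m).1 ?_ x
  rw [map_mul, Subgroup.coe_mul, hg, h.val_eq, (valP_spec hp m).2]

theorem IsLift.rel_eq (h : IsLift π γ) {j i : ℕ} (hj : j < 7) (hi : i ≤ j) :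
    (π (γ j * γ i) : Equiv.Perm GolayPt) = π (val γ (sl RR 7 (rel j i))) := by
  have h1 : mulP (sc j) (sc i) = valP idP (sl RR 7 (rel j i)) :=
    Nat.beq_eq ▸ al_iff.1 (al_iff.1 rel_check j hj) i (by omega)
  rw [h.val_eq, ← valP_id, ← h1, H15.permOf_mulP (good_sc hj).1 (good_sc (by omega)).1, map_mul, Subgroup.coe_mul,
    h j hj, h i (by omega)]

theorem Ext.exists_rule (X : Ext mat π θ) (h : IsLift π γ) : ∃ τ, Rule θ γ τ RR := by
  have : ∀ r, ∃ x, rj r < 7 → ri r ≤ rj r → γ (rj r) * γ (ri r) = θ x * val γ (sl RR 7 (rel (rj r) (ri r))) := by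
    intro r
    by_cases h1 : rj r < 7 ∧ ri r ≤ rj r
    · obtain ⟨x, hx⟩ := X.tail (h.rel_eq h1.1 h1.2)
      exact ⟨x, fun _ _ => hx⟩
    · exact ⟨0, fun a b => absurd ⟨a, b⟩ h1⟩
  choose τ hτ using this
  refine ⟨τ, fun j hj i hi => ?_⟩
  have := hτ (rel j i)
  rw [(rj_rel j hj i hi).1, (rj_rel j hj i hi).2] at this
  exact this hj hi

theorem Ext.exists_pre (X : Ext mat π θ) {c : ℕ} (h : Good Spor.M23 c) :
    ∃ g, (π g : Equiv.Perm GolayPt) = permOf c := by
  obtain ⟨g, hg⟩ := X.surj ⟨permOf c, h.2⟩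
  exact ⟨g, by rw [hg]⟩

theorem Ext.exists_lift (X : Ext mat π θ) : ∃ γ, IsLift π γ := by
  have : ∀ k, ∃ g, k < 7 → (π g : Equiv.Perm GolayPt) = permOf (sc k) := by
    intro k
    by_cases h : k < 7
    · obtain ⟨g, hg⟩ := X.exists_pre (good_sc h)
      exact ⟨g, fun _ => hg⟩
    · exact ⟨1, fun a => absurd a h⟩
  choose γ hγ using this
  exact ⟨γ, hγ⟩

theorem Rule.congr {τ' : ℕ → Vec} {R : ℕ} (h : Rule θ γ τ R) (e : ∀ r < 28, τ r = τ' r) : Rule θ γ τ' R :=
  fun j hj i hi => by rw [← e _ (rel_lt j hj i hi)]; exact h j hj i hi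

theorem eqA_spec (X : Ext mat π θ) {R T fuel : ℕ} (hR : Rule θ γ τ R) (hT : Tab θ γ 1 T) (a : ℕ × ℕ × ℕ)
    (k : ℕ → Bool) (h : eqA R T fuel a k = true) : ∃ L, sym τ L = 0 ∧ k L = true := by
  obtain ⟨m, j, i⟩ := a
  simp only [eqA, band_eq_true, Nat.ble_eq] at h
  obtain ⟨⟨a1, a2, a3⟩, h⟩ := h
  obtain ⟨m1, L1, h1, e1⟩ := run_spec X.add hR hT _ _ _ _ _ h
  obtain ⟨m2, L2, h2, e2⟩ := run_spec X.add hR hT _ _ _ _ _ h1
  rw [band_eq_true, Nat.beq_eq, force_eq] at h2
  refine ⟨L1 ^^^ L2, ?_, h2.2⟩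
  rw [sym_xor]
  apply X.cancel (a := 1 * val γ m1)
  have hr := rel_lt j (by omega) i a2
  have e3 : sym τ (Nat.shiftLeft (sl T 121 m) (Nat.mul 121 (rel j i))) = mv (sl T 121 m) (τ (rel j i)) :=
    sym_shift τ (sl_lt _ _ _) (by omega)
  rw [e3, ← hT m (by omega), ev_push, ev_nil, mul_one] at e2
  rw [← e1, h2.1, ← e2, sym_zero, theta_zero X.add, ev_cons, ev_cons, ev_nil, mul_one, hR j (by omega) i a2]
  simp only [one_mul, mul_assoc]

theorem ev_conj {η : E} {a b : ℕ → E} : ∀ ρ : List ℕ, (∀ x ∈ ρ, η * a x = b x * η) → η * ev a ρ = ev b ρ * η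
  | [], _ => by simp
  | x :: ρ, h => by
    rw [ev_cons, ev_cons, ← mul_assoc, h x List.mem_cons_self, mul_assoc,
      ev_conj ρ fun y hy => h y (List.mem_cons_of_mem _ hy), mul_assoc]

theorem halfF_spec (X : Ext mat π θ) {R T TH A B off fuel : ℕ} {η : E} (hR : Rule θ γ τ R) (hT : Tab θ γ 1 T)
    (hH : Tab θ γ η TH) (hF : ∀ x < 7, η * val γ (sl A 7 x) = θ (τ (off + x)) * val γ (sl B 7 x) * η)
    (ρ : List ℕ) (k : ℕ → ℕ → ℕ → Bool) (h : halfF R T TH A B off fuel ρ k = true) :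
    ∃ a b L, k a b L = true ∧ θ (sym τ L) * (η * val γ a) = val γ b * η := by
  simp only [halfF, band_eq_true, allL_iff, Nat.ble_eq] at h
  obtain ⟨a, LA, h1, e1⟩ := run_spec X.add hR hH _ _ _ _ _ h.2
  obtain ⟨b, LB, h2, e2⟩ := runB_spec X.add hR hT _ _ _ _ _ _ _ h1
  refine ⟨a, b, LA ^^^ LB, h2, ?_⟩
  rw [sym_zero, theta_zero X.add, val_zero, one_mul, one_mul] at e2
  rw [sym_zero, theta_zero X.add, val_zero, one_mul, mul_one, ev_flat,
    ev_conj ρ fun x hx => hF x (Nat.lt_succ_of_le (h.1 x hx)), e2] at e1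
  rw [sym_xor, add_comm, X.add, mul_assoc, ← e1, ← mul_assoc, ← mul_assoc, theta_sq X.add, one_mul]

theorem eqF_spec (X : Ext mat π θ) {R T fuel : ℕ} {TH : List ℕ} {η : ℕ → E} (hR : Rule θ γ τ R) (hT : Tab θ γ 1 T)
    (hH : ∀ f < 4, Tab θ γ (η f) (nth TH f))
    (hF : ∀ f < 4, ∀ x < 7, η f * val γ (sl (FA f) 7 x) = θ (τ (28 + 7 * f + x)) * val γ (sl (FB f) 7 x) * η f)
    (a : ℕ × List ℕ × List ℕ) (k : ℕ → Bool) (h : eqF R T TH fuel a k = true) : ∃ L, sym τ L = 0 ∧ k L = true := by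
  obtain ⟨f, ρ1, ρ2⟩ := a
  simp only [eqF, band_eq_true, Nat.ble_eq, force_eq] at h
  have hf : f < 4 := by omega
  obtain ⟨a1, b1, L1, h1, e1⟩ := halfF_spec X hR hT (hH f hf) (hF f hf) _ _ h.2
  obtain ⟨a2, b2, L2, h2, e2⟩ := halfF_spec X hR hT (hH f hf) (hF f hf) _ _ h1
  simp only [band_eq_true, Nat.beq_eq] at h2
  refine ⟨L1 ^^^ L2, ?_, h2.2⟩
  rw [sym_xor]
  apply X.cancel (a := η f * val γ a1)
  rw [e1, h2.1.1, h2.1.2, e2]

theorem eqC_spec {C : List ℕ} (hC : ∀ x < 7, τ (56 + x) = sym τ (nth C x)) (x : ℕ) (k : ℕ → Bool)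
    (h : eqC C x k = true) : ∃ L, sym τ L = 0 ∧ k L = true := by
  simp only [eqC, band_eq_true, Nat.ble_eq, force_eq] at h
  refine ⟨nth C x ^^^ idM <<< (121 * (56 + x)), ?_, h.2⟩
  rw [sym_xor, sym_shift τ (by decide) (by omega), mv_idM, hC x (by omega), vec_add_self]

theorem eqG_spec (add : ∀ x y, θ (x + y) = θ x * θ y) {R T fuel : ℕ} (hR : Rule θ γ τ R) (hT : Tab θ γ 1 T)
    (a : ℕ × ℕ) (k : ℕ → Bool) (h : eqG R T fuel a k = true) : a.1 < 7 ∧ a.2 ≤ a.1 ∧ ∃ L, k L = true ∧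
      (θ (τ (56 + a.1)) * γ a.1) * (θ (τ (56 + a.2)) * γ a.2) =
        θ (sym τ L) * val (fun x => θ (τ (56 + x)) * γ x) (sl R 7 (rel a.1 a.2)) := by
  obtain ⟨j, i⟩ := a
  simp only [eqG, band_eq_true, Nat.ble_eq] at h
  obtain ⟨⟨a1, a2⟩, h⟩ := h
  refine ⟨by simp only; omega, a1, ?_⟩
  obtain ⟨m1, L1, h1, e1⟩ := runB_spec add hR hT _ _ _ _ _ _ _ h
  obtain ⟨m2, L2, h2, e2⟩ := runB_spec add hR hT _ _ _ _ _ _ _ h1
  rw [band_eq_true, Nat.beq_eq, force_eq] at h2
  refine ⟨L1 ^^^ L2, h2.2, ?_⟩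
  rw [sym_zero, theta_zero add, val_zero, one_mul, one_mul] at e1 e2
  rw [ev_push, ev_nil, mul_one, val_congr (γ' := fun x => θ (τ (56 + x)) * γ x)
    (fun x hx => by rw [sl_B0 x hx, val_pow γ hx])] at e2
  rw [ev_cons, ev_cons, ev_nil, mul_one, sl_B0 j (by omega), sl_B0 i (by omega), val_pow γ (by omega),
    val_pow γ (by omega)] at e1
  simp only
  rw [e1, e2, sym_xor, add, mul_assoc, ← mul_assoc (θ (sym τ L2)), theta_sq add, one_mul, h2.1]

/-- the normal words are closed under right multiplication by the letters -/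
theorem exists_val_mul {γ : ℕ → E} (h : ∀ j < 7, ∀ i ≤ j, γ j * γ i = val γ (sl RR 7 (rel j i))) {m i : ℕ}
    (hm : m < 128) (hi : i < 7) : ∃ m' < 128, val γ m * γ i = val γ m' := by
  obtain ⟨m', L', h1, h2⟩ := run_spec (θ := fun _ => (1 : E)) (τ := fun _ => 0) (p := 1) (γ := γ) (T := 0)
    (fun _ _ => (mul_one _).symm) (fun j hj i hi => by rw [one_mul]; exact h j hj i hi)
    (fun _ _ _ => by simp) _ _ _ _ _ (al_iff.1 (al_iff.1 clo_check m hm) i hi)
  rw [Nat.ble_eq] at h1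
  exact ⟨m', by omega, by simpa using h2⟩

theorem Ext.card_ker (X : Ext mat π θ) : Nat.card π.ker = 2048 := by
  have : Nat.card Vec = 2048 := by simp [Vec]
  rw [← this]
  symm
  refine Nat.card_congr (Equiv.ofBijective (fun x => ⟨θ x, X.pi_theta x⟩) ⟨fun x y h => ?_, fun g => ?_⟩)
  · have h1 : θ x * 1 = θ y * 1 := by rw [mul_one, mul_one]; exact congrArg Subtype.val h
    have := X.cancel h1
    rw [← add_zero x, ← vec_add_self y, ← add_assoc, this, zero_add]
  · obtain ⟨x, hx⟩ := (X.ker g.1).1 g.2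
    exact ⟨x, Subtype.ext hx⟩

theorem Ext.split_of_rule [Finite E] (X : Ext mat π θ) (hγ : IsLift π γ)
    (h : ∀ j < 7, ∀ i ≤ j, γ j * γ i = val γ (sl RR 7 (rel j i))) : Split π := by
  set A := Subgroup.closure (γ '' {k | k < 7}) with hA
  have hmem : ∀ g ∈ A, ∃ m < 128, g = val γ m := by
    intro g hg
    have hg' : g ∈ Submonoid.closure (γ '' {k | k < 7}) := by
      rw [← Subgroup.closure_toSubmonoid_of_finite]; exact hg
    induction hg' using Submonoid.closure_induction_right with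
    | one => exact ⟨0, by norm_num, (val_zero γ).symm⟩
    | mul_right x hx y hy ih =>
      obtain ⟨m, hm, rfl⟩ := ih (by rw [hA, ← Subgroup.mem_toSubmonoid, Subgroup.closure_toSubmonoid_of_finite]; exact hx)
      obtain ⟨i, hi, rfl⟩ := hy
      exact exists_val_mul h hm hi
  have hval : ∀ m, val γ m ∈ A := val_mem fun k hk => Subgroup.subset_closure ⟨k, hk, rfl⟩
  have hAK : A ⊓ π.ker = ⊥ := by
    rw [eq_bot_iff]
    rintro g ⟨h1, h2⟩
    obtain ⟨m, hm, rfl⟩ := hmem g h1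
    have h3 := hγ.val_eq m
    rw [show π (val γ m) = 1 from h2, Subgroup.coe_one, ← val_zero (fun k => permOf (sc k))] at h3
    rw [← val_sc_inj (by norm_num) hm h3, val_zero]
    exact Subgroup.one_mem _
  have hc : Nat.card (A.map π) = 128 := by
    rw [← Nat.card_fin 128]
    symm
    refine Nat.card_congr (Equiv.ofBijective (fun m : Fin 128 => ⟨π (val γ m), ⟨_, hval m, rfl⟩⟩)
      ⟨fun x y e => ?_, fun g => ?_⟩)
    · have e1 : π (val γ x) = π (val γ y) := congrArg Subtype.val e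
      have e2 := congrArg Subtype.val e1
      rw [hγ.val_eq, hγ.val_eq] at e2
      exact Fin.ext (val_sc_inj x.2 y.2 e2)
    · obtain ⟨_, a, ha, rfl⟩ := g
      obtain ⟨m, hm, rfl⟩ := hmem a ha
      exact ⟨⟨m, hm⟩, rfl⟩
  have hi : (π.ker ⊔ A).index = 79695 := by
    rw [sup_comm, ← Subgroup.comap_map_eq, Subgroup.index_comap_of_surjective _ X.surj]
    have := (A.map π).index_mul_card
    rw [hc, H15.card_M23] at this
    omega
  haveI : IsMulCommutative π.ker := ⟨⟨fun a b => by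
    obtain ⟨x, hx⟩ := (X.ker a.1).1 a.2
    obtain ⟨y, hy⟩ := (X.ker b.1).1 b.2
    apply Subtype.ext
    rw [Subgroup.coe_mul, Subgroup.coe_mul, ← hx, ← hy, ← X.add, ← X.add, add_comm]⟩⟩
  obtain ⟨H, hH⟩ := H3.gaschuetz_exists π.ker (π.ker ⊔ A) le_sup_left (by rw [X.card_ker, hi]; norm_num) A hAK rfl
  exact ⟨H, by rw [inf_comm]; exact hH.disjoint.eq_bot, by rw [sup_comm]; exact hH.sup_eq_top⟩

theorem Ext.split_of_lam [Finite E] (X : Ext mat π θ) (hγ : IsLift π γ) (hR : Rule θ γ τ RR)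
    {T : ℕ} {TH : List ℕ} {Λ : ℕ} {lA : List (ℕ × ℕ × ℕ)} {lF : List (ℕ × List ℕ × List ℕ)} {C : List ℕ} {Y w fuel : ℕ}
    (hT : tabOk mat idP T = true) (hH : al 4 (fun f => tabOk mat (hc f) (nth TH f)) = true)
    (chk : chkA T TH Λ lA lF C Y w fuel = true) (hΛ : lf τ Λ = 0) : Split π := by
  have h1 : ∀ f, ∃ g, f < 4 → (π g : Equiv.Perm GolayPt) = permOf (hc f) := by
    intro k
    by_cases h : k < 4
    · obtain ⟨g, hg⟩ := X.exists_pre (good_hc h)
      exact ⟨g, fun _ => hg⟩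
    · exact ⟨1, fun a => absurd a h⟩
  choose η hη using h1
  have h2 : ∀ f x, ∃ t, f < 4 → x < 7 → η f * val γ (sl (FA f) 7 x) = θ t * val γ (sl (FB f) 7 x) * η f := by
    intro f x
    by_cases h : f < 4 ∧ x < 7
    · have e : valP (hc f) (sl (FA f) 7 x) = mulP (valP idP (sl (FB f) 7 x)) (hc f) :=
        Nat.beq_eq ▸ al_iff.1 (al_iff.1 fus_check f h.1) x h.2
      obtain ⟨t, ht⟩ := X.tail (a := η f * val γ (sl (FA f) 7 x)) (b := val γ (sl (FB f) 7 x) * η f) (by
        rw [map_mul, map_mul, Subgroup.coe_mul, Subgroup.coe_mul, hη f h.1, hγ.val_eq, hγ.val_eq,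
          ← (valP_spec (good_hc h.1).1 _).2, e, H15.permOf_mulP (valP_spec H15.okP_idP _).1 (good_hc h.1).1, valP_id])
      exact ⟨t, fun _ _ => by rw [ht, mul_assoc]⟩
    · exact ⟨0, fun a b => absurd ⟨a, b⟩ h⟩
  choose t ht using h2
  set τ1 : ℕ → Vec := fun r => if r < 28 then τ r else t ((r - 28) / 7) ((r - 28) % 7) with hτ1
  set τ2 : ℕ → Vec := fun r => if r < 56 then τ1 r else sym τ1 (nth C (r - 56)) with hτ2
  have e12 : ∀ r < 56, τ1 r = τ2 r := fun r hr => by simp [hτ2, hr]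
  have e02 : ∀ r < 28, τ r = τ2 r := fun r hr => by rw [← e12 r (by omega)]; simp [hτ1, hr]
  have hR2 := hR.congr e02
  have hT1 : Tab θ γ 1 T := X.tab hγ H15.okP_idP (by rw [map_one, H15.permOf_idP]; rfl) hT
  simp only [chkA, band_eq_true] at chk
  obtain ⟨⟨c1, c2⟩, c3⟩ := chk
  have hz : AllZ τ2 [Λ] := by
    intro x hx
    rw [List.mem_singleton.1 hx, ← lf_congr e02 (lt_of_shr c1), hΛ]
  obtain ⟨l1, z1, c4⟩ := eqsK_spec (eqA_spec X hR2 hT1) _ _ _ hz c3
  obtain ⟨l2, z2, c5⟩ := eqsK_spec (eqF_spec X hR2 hT1 (η := η)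
    (fun f hf => X.tab hγ (good_hc hf).1 (hη f hf) (al_iff.1 hH f hf)) (fun f hf x hx => by
      rw [← e12 _ (by omega), ht f x hf hx]
      simp only [hτ1, show ¬ 28 + 7 * f + x < 28 by omega, if_false]
      rw [show (28 + 7 * f + x - 28) / 7 = f by omega, show (28 + 7 * f + x - 28) % 7 = x by omega])) _ _ _ z1 c4
  obtain ⟨l3, z3, c6⟩ := eqsK_spec (eqC_spec (τ := τ2) (C := C) (fun x hx => by
      rw [← sym_congr e12 (lt_of_shr (al_iff.1 c2 x hx))]
      simp [hτ2])) _ _ _ z2 c5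
  refine X.split_of_rule (γ := fun x => θ (τ2 (56 + x)) * γ x) (fun k hk => by
    rw [map_mul, X.pi_theta, one_mul, hγ k hk]) fun j hj i hi => ?_
  obtain ⟨-, -, L, h3, h4⟩ := eqG_spec X.add hR2 hT1 _ _ (al_iff.1 (al_iff.1 c6 j hj) i (by omega))
  rw [inSpan_spec z3 h3, theta_zero X.add, one_mul] at h4
  exact h4

theorem Ext.lam_of_split (X : Ext mat π θ) (hγ : IsLift π γ) (hR : Rule θ γ τ RR)
    {T Λ : ℕ} {lG : List (ℕ × ℕ)} {s fuel : ℕ} (hT : tabOk mat idP T = true)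
    (chk : chkB T Λ lG s fuel = true) (hS : Split π) : lf τ Λ = 0 := by
  obtain ⟨H, hH1, hH2⟩ := hS
  have h1 : ∀ k, ∃ c, θ c * γ k ∈ H := by
    intro k
    have : γ k ∈ ((π.ker ⊔ H : Subgroup E) : Set E) := by rw [sup_comm, hH2]; trivial
    rw [Subgroup.normal_mul] at this
    obtain ⟨a, ha, b, hb, e⟩ := this
    obtain ⟨x, rfl⟩ := (X.ker a).1 ha
    refine ⟨x, ?_⟩
    rw [← e]
    simp only
    rwa [← mul_assoc, theta_sq X.add, one_mul]
  choose c hc' using h1
  set τ2 : ℕ → Vec := fun r => if r < 56 then τ r else c (r - 56) with hτ2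
  have e02 : ∀ r < 28, τ r = τ2 r := fun r hr => by simp [hτ2, show r < 56 by omega]
  have hR2 := hR.congr e02
  have hT1 : Tab θ γ 1 T := X.tab hγ H15.okP_idP (by rw [map_one, H15.permOf_idP]; rfl) hT
  have hm : ∀ k, θ (τ2 (56 + k)) * γ k ∈ H := fun k => by simpa [hτ2] using hc' k
  simp only [chkB, band_eq_true] at chk
  obtain ⟨l, z, h2⟩ := eqsK_spec (τ := τ2) (e := eqG RR T fuel) (fun a k h => by
    obtain ⟨-, -, L, h3, h4⟩ := eqG_spec X.add hR2 hT1 a k h
    refine ⟨L, X.inj _ ?_, h3⟩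
    have h5 : θ (sym τ2 L) ∈ H ⊓ π.ker := by
      refine ⟨?_, X.pi_theta _⟩
      rw [eq_mul_inv_of_mul_eq h4.symm]
      exact H.mul_mem (H.mul_mem (hm _) (hm _)) (H.inv_mem (val_mem (fun k _ => hm k) _))
    rwa [hH1, Subgroup.mem_bot] at h5) _ _ _ (fun _ h => absurd h List.not_mem_nil) chk.2
  have h3 := lf_comb l z s Λ
  rw [Nat.beq_eq] at h2
  rw [h2, lf_zero] at h3
  rw [lf_congr e02 (lt_of_shr chk.1), ← h3]

end Sound

end H8.Coh
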