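import Cfsg.Agent.Lib.Coh8.Syl
import Cfsg.Agent.Lib.Schur.MulFi23

/-! The Sylow 2-subgroup of Fi23 as `2^11 . S`. -/

set_option autoImplicit false
set_option maxRecDepth 100000

namespace H8.Coh.Syl

open H54 Cfsg H60
open H15 (sumLt maskF)

theorem force_true {x : ℕ} {f : ℕ → Bool} (h : force x f = true) : f x = true := h

noncomputable def colW (d : Pc) (fuel : ℕ) (U : List ℕ) (k : ℕ → Bool) (w : List ℕ) : ℕ → Bool :=
  List.rec (motive := fun _ => ℕ → Bool) k (fun x _ ih nf => force (nth U x) fun u =>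
    col d.n d.T d.sl d.sm 0 d.rep d.pw d.pm (fun nf' _ => ih nf') fuel nf u 0) w

noncomputable def rel4 (d : Pc) (U V a1 b1 b2 a2 : List ℕ) : Bool :=
  colW d 2000 U (colW d 2000 V (fun p => colW d 2000 V (colW d 2000 U (fun q => Nat.beq p q) a2) b2 0) b1) a1 0

section

variable {G : Type*} [Group G] {d : Pc} {g h : ℕ → G}

theorem col_real (ok : d.Ok) (H : d.Holds g h) (k : ℕ → ℕ → Bool) (fuel nf w E : ℕ)
    (hc : col d.n d.T d.sl d.sm 0 d.rep d.pw d.pm k fuel nf w E = true) :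
    ∃ nf' E', k nf' E' = true ∧ evR g nf * evP g w = evR g nf' := by
  obtain ⟨nf', E', z, h1, -, h2⟩ := col_spec (Z := ⊥) (d := { d with B := 0 }) (γ := g) (η := h) (τ := fun _ => 1)
    ⟨ok.1, ok.2, ok.3, ok.4, ok.5, ok.6⟩
    ⟨bot_le, H.zero, fun j hj i hi => by rw [OneMemClass.coe_one, mul_one]; exact H.rule j hj i hi,
      fun f hf x hx => by rw [OneMemClass.coe_one, mul_one]; exact H.fus f hf x hx⟩ k fuel nf w E hc
  exact ⟨nf', _, h1, by rw [h2, Subgroup.mem_bot.1 z.2, mul_one]⟩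

theorem colW_spec (ok : d.Ok) (H : d.Holds g h) (fuel : ℕ) (U : List ℕ) (k : ℕ → Bool) : ∀ (w : List ℕ) (nf : ℕ),
    colW d fuel U k w nf = true → ∃ nf', k nf' = true ∧ evR g nf * ev (fun x => evP g (nth U x)) w = evR g nf'
  | [], nf, hc => ⟨nf, hc, mul_one _⟩
  | x :: w, nf, hc => by
    obtain ⟨n1, _, h1, h2⟩ := col_real ok H (fun nf' _ => colW d fuel U k w nf') fuel nf (nth U x) 0 hc
    obtain ⟨n2, h3, h4⟩ := colW_spec ok H fuel U k w n1 h1
    exact ⟨n2, h3, by rw [ev_cons, ← mul_assoc, h2, h4]⟩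

theorem rel4_spec (ok : d.Ok) (H : d.Holds g h) {U V a1 b1 b2 a2 : List ℕ} (hc : rel4 d U V a1 b1 b2 a2 = true) :
    ev (fun x => evP g (nth U x)) a1 * ev (fun x => evP g (nth V x)) b1 =
      ev (fun x => evP g (nth V x)) b2 * ev (fun x => evP g (nth U x)) a2 := by
  obtain ⟨n1, h1, e1⟩ := colW_spec ok H _ _ _ _ _ hc
  obtain ⟨n2, h2, e2⟩ := colW_spec ok H _ _ _ _ _ h1
  obtain ⟨n3, h3, e3⟩ := colW_spec ok H _ _ _ _ _ h2
  obtain ⟨n4, h4, e4⟩ := colW_spec ok H _ _ _ _ _ h3
  rw [Nat.beq_eq] at h4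
  rw [evR_zero, one_mul] at e1 e3
  rw [e1, e2, e3, e4, h4]

theorem valN_xor {v : ℕ → G} (a b : ℕ) : ∀ n, (∀ k < n, ∀ l ≤ k, v k * v l = v l * v k) → (∀ k < n, v k * v k = 1) →
    valN v (a ^^^ b) n = valN v a n * valN v b n
  | 0, _, _ => (mul_one _).symm
  | n + 1, hc, hs => by
    have ih := valN_xor a b n (fun k hk => hc k (by omega)) (fun k hk => hs k (by omega))
    have c : v n * valN v b n = valN v b n * v n :=
      Subgroup.mem_centralizer_singleton_iff.1 (valN_mem (H := Subgroup.centralizer {v n}) b n fun k hk =>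
        Subgroup.mem_centralizer_singleton_iff.2 (hc n (by omega) k (by omega)).symm) |>.symm
    rw [valN, valN, valN, Nat.testBit_xor, ih]
    cases a.testBit n <;> cases b.testBit n <;> simp only [Bool.false_xor, Bool.true_xor, Bool.not_true,
      Bool.not_false, Bool.false_eq_true, if_true, if_false, mul_assoc]
    · rw [c]
    · rw [← mul_assoc (v n), c, mul_assoc, hs n (by omega), mul_one]

/-- the mask of a vector -/
noncomputable def vm (x : Vec) : ℕ := maskF (fun l => decide (xe x l = 1)) 11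

theorem testBit_vm (x : Vec) {k : ℕ} (hk : k < 11) : (vm x).testBit k = decide (x ⟨k, hk⟩ = 1) := by
  rw [vm, H15.testBit_maskF, xe, dif_pos hk]; simp [hk]

noncomputable def thv (v : ℕ → G) (x : Vec) : G := valN v (vm x) 11

theorem thv_bz (v : ℕ → G) (u : ℕ) : thv v (fun j => bz u j) = valN v u 11 :=
  valN_congr v 11 fun k hk => by
    rw [testBit_vm _ hk, bz]; cases u.testBit k <;> simp

theorem thv_add {v : ℕ → G} (hc : ∀ k < 11, ∀ l ≤ k, v k * v l = v l * v k) (hs : ∀ k < 11, v k * v k = 1)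
    (x y : Vec) : thv v (x + y) = thv v x * thv v y := by
  rw [thv, thv, thv, ← valN_xor _ _ 11 hc hs]
  refine valN_congr v 11 fun k hk => ?_
  rw [Nat.testBit_xor, testBit_vm _ hk, testBit_vm _ hk, testBit_vm _ hk, Pi.add_apply]
  generalize x ⟨k, hk⟩ = a
  generalize y ⟨k, hk⟩ = b
  revert a b; decide

theorem thv_single (v : ℕ → G) (l : Fin 11) : thv v (Pi.single l 1) = v l := by
  have : (Pi.single l 1 : Vec) = fun j : Fin 11 => bz (2 ^ (l : ℕ)) j := by
    funext j
    rw [bz, Nat.testBit_two_pow, Pi.single_apply]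
    simp [Fin.ext_iff, eq_comm]
  have h := valN_push v (m := 0) (i := l) (by positivity) 11 l.2
  rw [this, thv_bz, ← Nat.zero_xor (2 ^ (l : ℕ)), h, valN_zero, one_mul]

/-- column `l` of a matrix -/
noncomputable def colN (M l : ℕ) : ℕ := maskF (fun i => tb M (Nat.add (Nat.mul 11 i) l)) 11

theorem mv_single (M : ℕ) (l : Fin 11) : mv M (Pi.single l 1) = fun i : Fin 11 => bz (colN M l) i := by
  funext i
  rw [mv, Finset.sum_eq_single l, Pi.single_eq_same, mul_one, colN, bz, bz, H15.testBit_maskF, tb_eq,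
    decide_eq_true i.2, Bool.true_and]
  · rfl
  · intro j _ hj; rw [Pi.single_eq_of_ne hj, mul_zero]
  · simp

theorem conj_all {θ : Vec → G} (add : ∀ x y, θ (x + y) = θ x * θ y) {a : G} {M : ℕ}
    (h : ∀ l, a * θ (Pi.single l 1) = θ (mv M (Pi.single l 1)) * a) (x : Vec) : a * θ x = θ (mv M x) * a := by
  have h0 : a * θ 0 = θ (mv M 0) * a := by
    rw [show mv M 0 = 0 from (Fix M).zero_mem, theta_zero add, mul_one, one_mul]
  induction x using Pi.single_induction with
  | zero => exact h0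
  | add f g hf hg => rw [add, mv_add, add, ← mul_assoc, hf, mul_assoc, hg, mul_assoc]
  | single l c =>
    rcases z2 c with rfl | rfl
    · rw [Pi.single_zero]; exact h0
    · exact h l

noncomputable def mulOk (A B C : ℕ) : Bool :=
  al 11 fun i => al 11 fun j => Nat.beq (Nat.mod (Nat.add (sumLt 11 fun k =>
    Nat.mul (bn A (Nat.add (Nat.mul 11 i) k)) (bn B (Nat.add (Nat.mul 11 k) j))) (bn C (Nat.add (Nat.mul 11 i) j))) 2) 0

theorem mulOk_spec {A B C : ℕ} (h : mulOk A B C = true) (x : Vec) : mv A (mv B x) = mv C x := by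
  funext i
  simp only [mv, Finset.mul_sum]
  rw [Finset.sum_comm]
  refine Finset.sum_congr rfl fun j _ => ?_
  have h1 := cast_of_mod (al_iff.1 (al_iff.1 h i i.2) j j.2)
  simp only [Nat.add_eq, Nat.mul_eq, Nat.cast_add, sumLt_cast, Nat.cast_mul, bn_cast] at h1
  rw [add_eq_zero_iff_eq_neg, CharTwo.neg_eq] at h1
  simp only [← mul_assoc]
  rw [← Finset.sum_mul, h1]

theorem tab_check : al 7 (fun j => force (sl T2 121 (Nat.pow 2 j)) fun B => al (Nat.pow 2 j) fun m =>
    force (sl T2 121 m) fun A => force (sl T2 121 (Nat.xor m (Nat.pow 2 j))) fun C => mulOk A B C) = true := by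
  decide +kernel

theorem tab_zero : sl T2 121 0 = idM := by decide +kernel

theorem tab_of {θ : Vec → G} {y : ℕ → G} (h : ∀ j < 7, ∀ x, y j * θ x = θ (mv (sl T2 121 (2 ^ j)) x) * y j) :
    Tab θ y 1 T2 := by
  have key : ∀ n ≤ 7, ∀ m < 2 ^ n, ∀ x, val y m * θ x = θ (mv (sl T2 121 m) x) * val y m := by
    intro n
    induction n with
    | zero =>
      intro _ m hm x
      obtain rfl : m = 0 := by omega
      rw [val_zero, tab_zero, mv_idM, mul_one, one_mul]
    | succ n ih =>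
      intro hn m hm x
      by_cases h1 : m < 2 ^ n
      · exact ih (by omega) m h1 x
      · have h2 : m ^^^ 2 ^ n < 2 ^ n := by
          refine Nat.lt_pow_two_of_testBit _ fun i hi => ?_
          rw [Nat.testBit_xor, Nat.testBit_two_pow]
          by_cases e : n = i
          · subst e
            rw [Nat.testBit_of_two_pow_le_and_two_pow_add_one_gt (not_lt.1 h1) hm]; simp
          · rw [Nat.testBit_lt_two_pow (lt_of_lt_of_le hm (Nat.pow_le_pow_right (by norm_num) (by omega)))]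
            simp [e]
        have h3 := al_iff.1 tab_check n (by omega)
        rw [force_eq] at h3
        have h4 := mulOk_spec (al_iff.1 h3 _ h2) x
        have e : m = (m ^^^ 2 ^ n) ^^^ 2 ^ n := by rw [Nat.xor_assoc, Nat.xor_self, Nat.xor_zero]
        generalize m ^^^ 2 ^ n = m' at h2 h4 e
        subst e
        rw [val_push y h2 (by omega), mul_assoc, h n (by omega), ← mul_assoc, ih (by omega) m' h2, mul_assoc]
        exact congrArg (fun z => θ z * _) h4
  intro m hm x
  rw [one_mul]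
  exact key 7 le_rfl m hm x

end

def UV : List ℕ := [136073345, 6, 45640, 10, 779, 13, 14, 15, 16, 17, 18]
def UY : List ℕ := [4, 3, 2, 1, 5, 8, 11, 1, 2, 3, 4, 5, 6, 7, 8, 9, 10, 11, 12, 13, 14, 15, 16, 17, 18]
def TL2 : ℕ := 0x80180040620bc178210280541203040009b01a3a41e802117134204b91c89b41e65793bef0a72
def GU : ℕ := 0x20020020020020020820000040040002940100000000000000
def GM : ℕ := 0x810006041700100208208

theorem c1 : al 11 (fun k => band (rel4 Fi23.d2 UY UV [] [k, k] [] [])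
    (al (Nat.succ k) fun l => rel4 Fi23.d2 UY UV [] [k, l] [l, k] [])) = true := by decide +kernel
theorem c2 : al 7 (fun j => al 11 fun l => force (colN (sl T2 121 (Nat.pow 2 j)) l) fun c =>
    rel4 Fi23.d2 UY UV [j] [l] (pushN c 11 []) [j]) = true := by decide +kernel
theorem c3 : al 7 (fun j => al (Nat.succ j) fun i => force (sl TL2 11 (rel j i)) fun c => force (sl R2 7 (rel j i)) fun a =>
    rel4 Fi23.d2 UY UV [j, i] [] (pushN c 11 []) (push a [])) = true := by decide +kernel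
theorem c4 : al 18 (fun i => force (sl GU 11 i) fun c => force (sl GM 7 i) fun a =>
    band (Nat.beq (nth UY (Nat.add 7 i)) (Nat.succ i))
      (rel4 Fi23.d2 UY UV [Nat.add 7 i] [] (pushN c 11 []) (push a []))) = true := by decide +kernel

theorem c1a {k : ℕ} (hk : k < 11) : rel4 Fi23.d2 UY UV [] [k, k] [] [] = true :=
  ((band_eq_true _ _).1 (al_iff.1 c1 k hk)).1

theorem c1b {k l : ℕ} (hk : k < 11) (hl : l ≤ k) : rel4 Fi23.d2 UY UV [] [k, l] [l, k] [] = true :=
  al_iff.1 ((band_eq_true _ _).1 (al_iff.1 c1 k hk)).2 l (Nat.lt_succ_of_le hl)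

theorem c2a {j l : ℕ} (hj : j < 7) (hl : l < 11) :
    rel4 Fi23.d2 UY UV [j] [l] (pushN (colN (sl T2 121 (Nat.pow 2 j)) l) 11 []) [j] = true := by
  have h0 := al_iff.1 (al_iff.1 c2 j hj) l hl
  have h1 := force_true h0
  exact h1

theorem c3a {j i : ℕ} (hj : j < 7) (hi : i ≤ j) :
    rel4 Fi23.d2 UY UV [j, i] [] (pushN (sl TL2 11 (rel j i)) 11 []) (push (sl R2 7 (rel j i)) []) = true := by
  have h0 := al_iff.1 (al_iff.1 c3 j hj) i (Nat.lt_succ_of_le hi)
  have h1 := force_true h0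
  have h2 := force_true h1
  exact h2

theorem c4a {i : ℕ} (hi : i < 18) : nth UY (Nat.add 7 i) = i + 1 ∧
    rel4 Fi23.d2 UY UV [Nat.add 7 i] [] (pushN (sl GU 11 i) 11 []) (push (sl GM 7 i) []) = true := by
  have h0 := al_iff.1 c4 i hi
  have h1 := force_true h0
  have h2 := force_true h1
  have h3 := (band_eq_true _ _).1 h2
  exact ⟨Nat.eq_of_beq_eq_true h3.1, h3.2⟩

section

variable {G : Type*} [Group G] {g h : ℕ → G}

theorem rel_fi (H : Fi23.d2.Holds g h) :
    Rel (thv fun x => evP g (nth UV x)) (fun x => evP g (nth UY x)) fun r j => bz (sl TL2 11 r) j := by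
  have ok := (fmtOk_spec Fi23.d2a_fmt).1
  have add : ∀ a b, thv (fun x => evP g (nth UV x)) (a + b) =
      thv (fun x => evP g (nth UV x)) a * thv (fun x => evP g (nth UV x)) b := by
    refine thv_add (fun k hk l hl => ?_) fun k hk => ?_
    · have := rel4_spec ok H (c1b hk hl)
      rwa [ev_nil, one_mul, mul_one, ev_cons, ev_cons, ev_cons, ev_cons, ev_nil, mul_one, mul_one] at this
    · have := rel4_spec ok H (c1a hk)
      rwa [ev_nil, one_mul, mul_one, ev_cons, ev_cons, ev_nil, mul_one] at this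
  refine ⟨add, fun j hj i hi => ?_, tab_of fun j hj => conj_all add fun l => ?_⟩
  · have h1 := rel4_spec ok H (c3a hj hi)
    rw [ev_pushN, ev_push, ev_cons, ev_cons, ev_nil, ev_nil, mul_one, mul_one, mul_one, mul_one] at h1
    rw [thv_bz]
    exact h1
  · have h1 := rel4_spec ok H (c2a hj l.2)
    rw [ev_pushN, ev_cons, ev_cons, ev_nil, ev_nil, mul_one, mul_one, mul_one] at h1
    rw [thv_single, mv_single, thv_bz]
    exact h1

theorem gen_fi (H : Fi23.d2.Holds g h) : g '' {i | 1 ≤ i ∧ i ≤ 18} ⊆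
    Set.range (nf (thv fun x => evP g (nth UV x)) fun x => evP g (nth UY x)) := by
  have ok := (fmtOk_spec Fi23.d2a_fmt).1
  rintro _ ⟨i, ⟨h1, h2⟩, rfl⟩
  obtain ⟨i, rfl⟩ : ∃ k, i = k + 1 := ⟨i - 1, by omega⟩
  have h0 := c4a (i := i) (by omega)
  have h3 := rel4_spec ok H h0.2
  rw [ev_pushN, ev_push, ev_cons, h0.1, evP_step H.zero, Nat.mod_eq_of_lt (by omega), Nat.div_eq_of_lt (by omega),
    evP_zero, ev_nil, ev_nil, mul_one, mul_one, mul_one, mul_one, mul_one] at h3
  refine ⟨(fun j => bz (sl GU 11 i) j, ⟨sl GM 7 i, sl_lt _ _ _⟩), ?_⟩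
  rw [nf, thv_bz]
  exact h3.symm

end

theorem fi23 (T : Sylow 2 Spor.Fi23) :
    (∀ A : Subgroup Spor.Fi23, A ≤ T → (A.subgroupOf T).Normal → IsElementaryAbelian 2 A → Nat.card A ≤ 2 ^ 11) ∧
    ∃! A : Subgroup Spor.Fi23, A ≤ T ∧ (A.subgroupOf T).Normal ∧ IsElementaryAbelian 2 A ∧ Nat.card A = 2 ^ 11 := by
  obtain ⟨g, h, H, hc⟩ := Fi23.d2_real
  have : Finite Spor.Fi23 := Nat.finite_of_card_ne_zero (by rw [H18.Fi23.card_eq]; norm_num)
  exact (rel_fi H).sylow (gen_fi H) hc (by rw [H18.Fi23.card_eq]; norm_num) T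

end H8.Coh.Syl
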