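import Cfsg.Agent.Lib.Coh8.Ext

/-! The matrices of M23 on the 11-dimensional Golay code and cocode modules. -/

set_option autoImplicit false

namespace H8.Coh

open H54 Cfsg
open H15 (ap imgM maskF)

/-- a basis of the code words vanishing at the extra point -/
def DcL : List ℕ := [4845570, 1302533, 7221256, 6053905, 7417889, 2854977, 2019456, 4038912, 8077824, 7767041, 2422785]
noncomputable def Dc (k : ℕ) : ℕ := nth DcL k

/-- the matrix on the cocode module -/
noncomputable def matC (c : ℕ) : ℕ :=
  maskF (fun k => tb (Dc (Nat.div k 11)) (ap c (Nat.succ (Nat.mod k 11)))) 121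

/-- the matrix on the code module -/
noncomputable def matD (c : ℕ) : ℕ :=
  maskF (fun k => force (Nat.mod k 11) fun j => tb (imgM c (Dc j)) (Nat.succ (Nat.div k 11))) 121

theorem bz_matC (c : ℕ) (i j : Fin 11) : bz (matC c) (11 * i + j) = bz (Dc i) (ap c (j + 1)) := by
  have hi := i.2
  have hj := j.2
  unfold bz matC
  rw [H15.testBit_maskF, tb_eq]
  have e1 : Nat.div (11 * (i : ℕ) + j) 11 = i := by show (11 * (i : ℕ) + j) / 11 = i; omega
  have e2 : Nat.mod (11 * (i : ℕ) + j) 11 = j := by show (11 * (i : ℕ) + j) % 11 = j; omega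
  rw [e1, e2, decide_eq_true (show 11 * (i : ℕ) + j < 121 by omega), Bool.true_and]

theorem bz_matD (c : ℕ) (i j : Fin 11) : bz (matD c) (11 * i + j) = bz (imgM c (Dc j)) (i + 1) := by
  have hi := i.2
  have hj := j.2
  unfold bz matD
  rw [H15.testBit_maskF, force_eq, tb_eq]
  have e1 : Nat.div (11 * (i : ℕ) + j) 11 = i := by show (11 * (i : ℕ) + j) / 11 = i; omega
  have e2 : Nat.mod (11 * (i : ℕ) + j) 11 = j := by show (11 * (i : ℕ) + j) % 11 = j; omega
  rw [e1, e2, decide_eq_true (show 11 * (i : ℕ) + j < 121 by omega), Bool.true_and]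

end H8.Coh
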