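import Cfsg.Agent.Lib.Coh8.Mat

/-! The Golay code and cocode modules of M23 in coordinates. -/

set_option autoImplicit false

namespace H8.Coh

open H54 Cfsg
open H15 (ap imgM maskF okP permOf wordOf ofMask idx pt isCode cw)

abbrev Wd := GolayPt → ZMod 2

noncomputable def wd (m : ℕ) : Wd := wordOf (ofMask m)

theorem wd_apply (m : ℕ) (p : GolayPt) : wd m p = bz m (idx p) := by
  unfold wd wordOf bz
  simp only [H15.mem_ofMask]

theorem wd_pt (m : ℕ) {k : ℕ} (hk : k < 24) : wd m (pt k) = bz m k := by rw [wd_apply, H15.idx_pt hk]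

theorem wd_xor (a b : ℕ) : wd (a ^^^ b) = wd a + wd b := by
  funext p; rw [Pi.add_apply, wd_apply, wd_apply, wd_apply, bz_xor]

theorem wd_zero : wd 0 = 0 := by funext p; rw [wd_apply, bz_zero]; rfl

theorem wd_add_self (w : Wd) : w + w = 0 := by funext i; exact CharTwo.add_self_eq_zero _

theorem wd_pow {k : ℕ} (hk : k < 24) : wd (2 ^ k) = Pi.single (pt k) 1 := by
  funext p
  rw [wd_apply, Pi.single_apply]
  unfold bz
  rw [Nat.testBit_two_pow]
  by_cases h : k = idx p
  · simp [h, H15.pt_idx]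
  · have : p ≠ pt k := fun e => h (by rw [e, H15.idx_pt hk])
    simp [h, this]

theorem wordOf_comp (s : Finset GolayPt) (σ : Equiv.Perm GolayPt) :
    wordOf s ∘ ⇑σ⁻¹ = wordOf (open scoped Pointwise in σ • s) := by
  funext p
  simp only [Function.comp, wordOf, H15.mem_smul_finset_iff]

theorem wd_comp {c : ℕ} (h : okP c = true) (m : ℕ) : wd m ∘ ⇑(permOf c)⁻¹ = wd (imgM c m) := by
  unfold wd; rw [wordOf_comp, H15.permOf_smul h]

theorem wd_mem {m : ℕ} (h : isCode m = true) : wd m ∈ golayCode :=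
  H15.mem_codeSets_iff.1 (H15.ofMask_mem_of_isCode h)

theorem comp_mem {σ : Equiv.Perm GolayPt} (h : σ ∈ M24) {w : Wd} (hw : w ∈ golayCode) : w ∘ ⇑σ⁻¹ ∈ golayCode := by
  rw [← H15.wordOf_support₂ w, wordOf_comp]
  exact H15.mem_codeSets_iff.1 (H15.smul_mem_codeSets h (H15.support₂_mem_codeSets_iff.2 hw))

/-- linear combination of eleven words -/
def lin (b : Fin 11 → Wd) (x : Vec) : Wd := ∑ j, x j • b j

theorem lin_add (b : Fin 11 → Wd) (x y : Vec) : lin b (x + y) = lin b x + lin b y := by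
  simp [lin, add_smul, Finset.sum_add_distrib]

theorem lin_zero (b : Fin 11 → Wd) : lin b 0 = 0 := by simp [lin]

theorem lin_apply (b : Fin 11 → Wd) (x : Vec) (p : GolayPt) : lin b x p = ∑ j, b j p * x j := by
  simp [lin, Finset.sum_apply, mul_comm]

theorem lin_mem {U : Submodule (ZMod 2) Wd} {b : Fin 11 → Wd} (h : ∀ j, b j ∈ U) (x : Vec) : lin b x ∈ U :=
  U.sum_mem fun j _ => U.smul_mem _ (h j)

noncomputable def bD (j : Fin 11) : Wd := wd (Dc j)
noncomputable def bE (j : Fin 11) : Wd := wd (2 ^ (j + 1 : ℕ))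

theorem Dc_code : ∀ j : Fin 11, isCode (Dc j) = true ∧ bz (Dc j) 23 = 0 := by decide +kernel
theorem Dc_dual : ∀ i j : Fin 11, bz (Dc i) (j + 1) = if i = j then 1 else 0 := by decide +kernel

theorem bD_mem (j : Fin 11) : bD j ∈ golayCode := wd_mem (Dc_code j).1
theorem bD_none (j : Fin 11) : bD j none = 0 := by rw [bD, wd_apply]; exact (Dc_code j).2

theorem linD_mem (x : Vec) : lin bD x ∈ golayCode ∧ lin bD x none = 0 :=
  ⟨lin_mem bD_mem x, by simp [lin_apply, bD_none]⟩

/-- coordinates of a code word -/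
def crd (w : Wd) : Vec := fun i => w (pt (i + 1))

theorem crd_add (v w : Wd) : crd (v + w) = crd v + crd w := rfl

theorem crd_linD (x : Vec) : crd (lin bD x) = x := by
  funext i
  have hi := i.2
  simp [crd, lin_apply, bD, wd_pt _ (show (i : ℕ) + 1 < 24 by omega), Dc_dual]

theorem info_check : H15.allLt2 64 64 (fun u => force (cw u) fun m =>
    bimp (band (al 11 fun i => Bool.not (tb m (Nat.succ i))) (Bool.not (tb m 23))) (Nat.beq m 0)) = true := by
  decide +kernel

theorem eq_zero_of_crd {w : Wd} (h1 : w ∈ golayCode) (h2 : w none = 0) (h3 : crd w = 0) : w = 0 := by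
  obtain ⟨m, hm, rfl⟩ := H15.exists_isCode_of_mem h1
  obtain ⟨u, hu, rfl⟩ := H15.isCode_iff.1 hm
  have h := H15.allLt2_iff.1 info_check u hu
  rw [force_eq, bimp_eq_true, band_eq_true, al_iff, Nat.beq_eq] at h
  have e : ∀ m k, bz m k = 0 → (!tb m k) = true := by
    intro m k hk
    unfold bz at hk
    rw [tb_eq]
    cases hb : m.testBit k
    · rfl
    · rw [hb] at hk; simp at hk
  have h4 : cw u = 0 := by
    refine h ⟨fun i hi => e _ _ ?_, e _ _ ?_⟩
    · rw [← wd_pt _ (by omega)]; exact congrFun h3 ⟨i, hi⟩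
    · rw [← wd_pt _ (by omega)]; exact h2
  rw [h4]; exact wd_zero

theorem linD_crd {w : Wd} (h1 : w ∈ golayCode) (h2 : w none = 0) : lin bD (crd w) = w := by
  have := eq_zero_of_crd (golayCode.add_mem h1 (linD_mem (crd w)).1) (by rw [Pi.add_apply, h2, (linD_mem _).2, add_zero])
    (by rw [crd_add, crd_linD, vec_add_self])
  rw [← add_zero (lin bD (crd w)), ← wd_add_self w, ← add_assoc, add_comm (lin bD (crd w)) w, this, zero_add]

theorem crd_comp {c : ℕ} (h : okP c = true) (x : Vec) : crd (lin bD x ∘ ⇑(permOf c)⁻¹) = mv (matD c) x := by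
  funext i
  have hi := i.2
  unfold crd mv
  rw [Function.comp_apply, lin_apply]
  refine Finset.sum_congr rfl fun j _ => ?_
  rw [bz_matD, ← wd_pt _ (show (i : ℕ) + 1 < 24 by omega), ← wd_comp h]
  rfl

/-- the code together with its translate by the unit vector at the extra point -/
def KK : Submodule (ZMod 2) Wd where
  carrier := {w | w ∈ golayCode ∨ w + Pi.single none 1 ∈ golayCode}
  zero_mem' := Or.inl golayCode.zero_mem
  add_mem' := by
    rintro a b (ha | ha) (hb | hb)
    · exact Or.inl (golayCode.add_mem ha hb)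
    · exact Or.inr (by rw [add_assoc]; exact golayCode.add_mem ha hb)
    · exact Or.inr (by rw [add_right_comm]; exact golayCode.add_mem ha hb)
    · refine Or.inl ?_
      have := golayCode.add_mem ha hb
      rwa [add_add_add_comm, wd_add_self, add_zero] at this
  smul_mem' := by
    intro c w hw
    have : c = 0 ∨ c = 1 := by revert c; decide
    rcases this with rfl | rfl
    · rw [zero_smul]; exact Or.inl golayCode.zero_mem
    · rwa [one_smul]

theorem mem_KK {w : Wd} : w ∈ KK ↔ w ∈ golayCode ∨ w + Pi.single none 1 ∈ golayCode := Iff.rfl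

theorem dot_KK {v w : Wd} (h1 : v ∈ golayCode) (h2 : v none = 0) (hw : w ∈ KK) : v ⬝ᵥ w = 0 := by
  rcases hw with hw | hw
  · exact H15.dot_eq_zero h1 hw
  · have : v ⬝ᵥ (w + Pi.single none 1) = 0 := H15.dot_eq_zero h1 hw
    rwa [dotProduct_add, dotProduct_single, h2, zero_mul, add_zero] at this

/-- coordinates of the class of a word in the cocode module -/
noncomputable def red (w : Wd) : Vec := fun i => bD i ⬝ᵥ w

theorem red_add (v w : Wd) : red (v + w) = red v + red w := by funext i; simp [red, dotProduct_add]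

theorem dot_linE (v : Wd) (x : Vec) : v ⬝ᵥ lin bE x = ∑ j, crd v j * x j := by
  unfold lin
  rw [dotProduct_sum]
  refine Finset.sum_congr rfl fun j _ => ?_
  have hj := j.2
  rw [dotProduct_smul, bE, wd_pow (by omega), dotProduct_single, mul_one, smul_eq_mul, mul_comm]
  rfl

theorem red_linE (x : Vec) : red (lin bE x) = x := by
  funext i
  have : ∀ j : Fin 11, crd (bD i) j = if i = j then 1 else 0 := fun j => by
    have hj := j.2
    rw [crd, bD, wd_pt _ (by omega), Dc_dual]
  simp [red, dot_linE, this]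

theorem red_KK {w : Wd} (h : w ∈ KK) : red w = 0 := funext fun i => dot_KK (bD_mem i) (bD_none i) h

noncomputable def colM (p : ℕ) : ℕ := maskF (fun i => tb (Dc i) p) 11

theorem pt_check : al 24 (fun p => force (Nat.xor (Nat.shiftLeft 1 p) (Nat.shiftLeft (colM p) 1)) fun m =>
    bor (isCode m) (isCode (Nat.xor m 8388608))) = true := by decide +kernel

theorem linE_mask {u : ℕ} (hu : u < 2 ^ 11) : lin bE (fun i => bz u i) = wd (u <<< 1) := by
  funext p
  revert p
  rw [H15.forall_pt]
  intro k hk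
  rw [lin_apply, wd_pt _ hk]
  have e : ∀ j : Fin 11, bE j (pt k) = if (j : ℕ) + 1 = k then 1 else 0 := fun j => by
    rw [bE, wd_pt _ hk, bz, Nat.testBit_two_pow]; simp
  simp only [e]
  have e2 : bz (u <<< 1) k = if 1 ≤ k then bz u (k - 1) else 0 := by
    unfold bz; rw [Nat.testBit_shiftLeft]; by_cases h : 1 ≤ k <;> simp [h]
  rw [e2]
  by_cases h : 1 ≤ k ∧ k ≤ 11
  · rw [Finset.sum_eq_single ⟨k - 1, by omega⟩]
    · simp [h.1]
    · intro j _ hj
      rw [if_neg, zero_mul]
      intro e; exact hj (Fin.ext (by simp only; omega))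
    · simp
  · rw [Finset.sum_eq_zero]
    · split_ifs
      · exact (bz_of_lt hu (by omega)).symm
      · rfl
    · intro j _
      have hj := j.2
      rw [if_neg (by omega), zero_mul]

theorem red_single (p : GolayPt) : Pi.single p 1 + lin bE (red (Pi.single p 1)) ∈ KK := by
  have hp := H15.idx_lt p
  have e : red (Pi.single p 1) = fun i : Fin 11 => bz (colM (idx p)) i := by
    funext i
    rw [red, dotProduct_single, mul_one, bD, wd_apply]
    unfold bz colM
    rw [H15.testBit_maskF, tb_eq, decide_eq_true i.2, Bool.true_and]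
  have h := al_iff.1 pt_check _ hp
  rw [force_eq, bor_eq_true] at h
  have e1 : wd (Nat.xor (Nat.shiftLeft 1 (idx p)) (Nat.shiftLeft (colM (idx p)) 1)) =
      Pi.single p 1 + wd (colM (idx p) <<< 1) := by
    show wd (1 <<< idx p ^^^ colM (idx p) <<< 1) = _
    rw [wd_xor, Nat.one_shiftLeft, wd_pow hp, H15.pt_idx]
  rw [e, linE_mask (u := colM (idx p)) (H15.maskF_lt _ _), ← e1]
  rcases h with h | h
  · exact Or.inl (wd_mem h)
  · refine Or.inr ?_
    have := wd_mem h
    rwa [show ∀ a, Nat.xor a 8388608 = a ^^^ 2 ^ 23 from fun _ => rfl, wd_xor, wd_pow (by norm_num), H15.pt_23] at this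

theorem red_spec (w : Wd) : w + lin bE (red w) ∈ KK := by
  induction w using Pi.single_induction with
  | zero =>
    have : red 0 = 0 := by funext i; simp [red]
    rw [this, lin_zero, add_zero]; exact KK.zero_mem
  | add f g hf hg => rw [red_add, lin_add, add_add_add_comm]; exact KK.add_mem hf hg
  | single p c =>
    have : c = 0 ∨ c = 1 := by revert c; decide
    rcases this with rfl | rfl
    · have : red 0 = 0 := by funext i; simp [red]
      rw [Pi.single_zero, this, lin_zero, add_zero]; exact KK.zero_mem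
    · exact red_single p

theorem red_comp {c : ℕ} (h : okP c = true) (x : Vec) : red (lin bE x ∘ ⇑(permOf c)⁻¹) = mv (matC c) x := by
  funext i
  have : bD i ⬝ᵥ (lin bE x ∘ ⇑(permOf c)⁻¹) = (bD i ∘ ⇑(permOf c)) ⬝ᵥ lin bE x := by
    rw [← comp_equiv_dotProduct_comp_equiv _ _ (permOf c)]
    congr 1
    funext p; simp
  rw [red, this, dot_linE]
  refine Finset.sum_congr rfl fun j _ => ?_
  have hj := j.2
  rw [bz_matC, crd, Function.comp_apply, H15.permOf_pt h (by omega), bD, wd_pt _ (H15.ap_lt h (by omega))]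

section

variable {E : Type*} [Group E] (N : Subgroup E) [hN : N.Normal] (φ : E ⧸ N ≃* ↥Spor.M23)

/-- the projection onto M23 -/
def proj : E →* Spor.M23 := φ.toMonoidHom.comp (QuotientGroup.mk' N)

theorem proj_apply (g : E) : proj N φ g = φ (QuotientGroup.mk g) := rfl

theorem proj_eq_one {g : E} : proj N φ g = 1 ↔ g ∈ N := by
  rw [proj_apply, map_eq_one_iff _ φ.injective, QuotientGroup.eq_one_iff]

theorem proj_ker : (proj N φ).ker = N := by ext g; exact proj_eq_one N φ

theorem proj_surj : Function.Surjective (proj N φ) := φ.surjective.comp (QuotientGroup.mk'_surjective N)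

theorem ext_code (ψ : Additive ↥N →+ Wd) (hinj : Function.Injective ψ)
    (hrange : ∀ w : Wd, w ∈ Set.range ψ ↔ (w ∈ golayCode ∧ w none = 0))
    (hψ : ∀ (g : E) (n : ↥N), ψ (Additive.ofMul ⟨g * n * g⁻¹, hN.conj_mem n n.2 g⟩)
        = ψ (Additive.ofMul n) ∘ ⇑(((φ (QuotientGroup.mk g) : ↥Spor.M23) : Equiv.Perm GolayPt)⁻¹)) :
    ∃ θ, Ext matD (proj N φ) θ := by
  have h1 : ∀ x, ∃ n : N, ψ (Additive.ofMul n) = lin bD x := fun x => (hrange _).2 (linD_mem x)
  choose t ht using h1
  have h2 : ∀ n : N, t (crd (ψ (Additive.ofMul n))) = n := by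
    intro n
    obtain ⟨a, b⟩ := (hrange _).1 ⟨Additive.ofMul n, rfl⟩
    exact Additive.ofMul.injective (hinj (by rw [ht, linD_crd a b]))
  refine ⟨fun x => t x, fun x y => ?_, fun x hx => ?_, fun g => ?_, proj_surj N φ, fun g c hc hg x => ?_⟩
  · rw [← Subgroup.coe_mul]
    congr 1
    exact Additive.ofMul.injective (hinj (by rw [ofMul_mul, map_add, ht, ht, ht, lin_add]))
  · have : t x = 1 := Subtype.ext hx
    rw [← crd_linD x, ← ht, this, ofMul_one, map_zero]; rfl
  · rw [proj_eq_one]
    exact ⟨fun h => ⟨_, congrArg Subtype.val (h2 ⟨g, h⟩)⟩, fun ⟨x, hx⟩ => hx ▸ (t x).2⟩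
  · have h3 := hψ g (t x)
    rw [← proj_apply, hg, ht] at h3
    have h4 := h2 ⟨g * t x * g⁻¹, hN.conj_mem _ (t x).2 g⟩
    rw [h3, crd_comp hc] at h4
    simp only [h4, inv_mul_cancel_right]

theorem ext_cocode (θ : Wd →+ Additive ↥N) (hsurj : Function.Surjective θ)
    (hker : ∀ w : Wd, θ w = 0 ↔ (w ∈ golayCode ∨ w + Pi.single none 1 ∈ golayCode))
    (hθ : ∀ (g : E) (w : Wd),
      ((θ (w ∘ ⇑(((φ (QuotientGroup.mk g) : ↥Spor.M23) : Equiv.Perm GolayPt)⁻¹))).toMul : E)
        = g * ((θ w).toMul : E) * g⁻¹) :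
    Ext matC (proj N φ) (fun x => ((θ (lin bE x)).toMul : E)) := by
  have h1 : ∀ w, θ (lin bE (red w)) = θ w := by
    intro w
    have h2 := (hker _).2 (red_spec w)
    rw [← add_zero (lin bE (red w)), ← wd_add_self w, ← add_assoc, map_add, add_comm (lin bE (red w)) w, h2, zero_add]
  refine ⟨fun x y => ?_, fun x hx => ?_, fun g => ?_, proj_surj N φ, fun g c hc hg x => ?_⟩
  · simp only [lin_add, map_add, toMul_add, Subgroup.coe_mul]
  · have : θ (lin bE x) = 0 := Additive.toMul.injective (Subtype.ext hx)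
    rw [← red_linE x, red_KK ((hker _).1 this)]
  · rw [proj_eq_one]
    refine ⟨fun h => ?_, fun ⟨x, hx⟩ => hx ▸ (θ (lin bE x)).toMul.2⟩
    obtain ⟨w, hw⟩ := hsurj (Additive.ofMul ⟨g, h⟩)
    exact ⟨red w, by simp only [h1, hw]; rfl⟩
  · have h3 := hθ g (lin bE x)
    rw [← proj_apply, hg, ← h1, red_comp hc] at h3
    simp only [h3, inv_mul_cancel_right]

end

end H8.Coh
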