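import Cfsg.Agent.Lib.Coh8.Mod
import Cfsg.Agent.Lib.Coh8.DatC

/-! The automorphisms of the Parker loop over the code words vanishing at the extra point:
a non-split extension of M23 by the cocode module. -/

set_option autoImplicit false

namespace H8.Coh

open H54 Cfsg
open H15 (ap imgM maskF okP permOf wordOf ofMask idx pt isCode cw sumLt Good wt)

/-- the code words vanishing at the extra point -/
def C11 : Submodule (ZMod 2) Wd where
  carrier := {w | w ∈ golayCode ∧ w none = 0}
  zero_mem' := ⟨golayCode.zero_mem, rfl⟩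
  add_mem' := fun a b => ⟨golayCode.add_mem a.1 b.1, by rw [Pi.add_apply, a.2, b.2, add_zero]⟩
  smul_mem' := fun c _ a => ⟨golayCode.smul_mem c a.1, by rw [Pi.smul_apply, a.2, smul_zero]⟩

theorem M23_none (σ : Spor.M23) : (σ : Equiv.Perm GolayPt) none = none := σ.2.2

def act (σ : Spor.M23) (x : C11) : C11 :=
  ⟨x.1 ∘ ⇑(σ : Equiv.Perm GolayPt)⁻¹, comp_mem σ.2.1 x.2.1, by
    have : (σ : Equiv.Perm GolayPt)⁻¹ none = none := M23_none σ⁻¹
    rw [Function.comp_apply, this]; exact x.2.2⟩

theorem act_one (x : C11) : act 1 x = x := rfl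
theorem act_mul (σ ρ : Spor.M23) (x : C11) : act (σ * ρ) x = act σ (act ρ x) := rfl
theorem act_add (σ : Spor.M23) (x y : C11) : act σ (x + y) = act σ x + act σ y := rfl

noncomputable def bC (j : Fin 11) : C11 := ⟨bD j, bD_mem j, bD_none j⟩

theorem z2 (c : ZMod 2) : c = 0 ∨ c = 1 := by revert c; decide

theorem add_ext {g : C11 → ZMod 2} (h : ∀ x y, g (x + y) = g x + g y) (x : C11) :
    g x = ∑ j, crd x.1 j * g (bC j) := by
  have e : x = ∑ j, crd x.1 j • bC j := by
    apply Subtype.ext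
    rw [Submodule.coe_sum]
    exact (linD_crd x.2.1 x.2.2).symm
  have := map_sum (AddMonoidHom.mk' g h) (fun j => crd x.1 j • bC j) Finset.univ
  rw [← e] at this
  refine this.trans (Finset.sum_congr rfl fun j _ => ?_)
  rcases z2 (crd x.1 j) with h0 | h0 <;> rw [h0]
  · rw [zero_smul, map_zero, zero_mul]
  · rw [one_smul, one_mul]; rfl

theorem bil_ext {B : C11 → C11 → ZMod 2} (h1 : ∀ x x' y, B (x + x') y = B x y + B x' y)
    (h2 : ∀ x y y', B x (y + y') = B x y + B x y') (h : ∀ i j, B (bC i) (bC j) = 0) (x y : C11) : B x y = 0 := by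
  rw [add_ext (g := fun x => B x y) (fun a b => h1 a b y)]
  refine Finset.sum_eq_zero fun i _ => ?_
  rw [add_ext (g := B (bC i)) (h2 _)]
  simp [h]

def bl (U : ℕ) (x y : Wd) : ZMod 2 := crd x ⬝ᵥ mv U (crd y)

theorem bl_add_left (U : ℕ) (x x' y : Wd) : bl U (x + x') y = bl U x y + bl U x' y := by
  rw [bl, bl, bl, crd_add, add_dotProduct]

theorem bl_add_right (U : ℕ) (x y y' : Wd) : bl U x (y + y') = bl U x y + bl U x y' := by
  rw [bl, bl, bl, crd_add, mv_add, dotProduct_add]

noncomputable def hw (x d : Wd) : ZMod 2 := (((support₂ x ∩ support₂ d).card / 2 : ℕ) : ZMod 2)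

def tri (x y z : Wd) : ZMod 2 := (x * y) ⬝ᵥ z

theorem tri_comp (σ : Equiv.Perm GolayPt) (x y z : Wd) : tri (x ∘ σ) (y ∘ σ) (z ∘ σ) = tri x y z := by
  rw [tri, tri, ← comp_equiv_dotProduct_comp_equiv (x * y) z σ, Pi.mul_comp]

theorem tri_add (x y z z' : Wd) : tri x y (z + z') = tri x y z + tri x y z' := by
  rw [tri, tri, tri, dotProduct_add]

theorem hw_add {x y d : Wd} (hx : x ∈ golayCode) (hy : y ∈ golayCode) (hd : d ∈ golayCode) :
    hw (x + y) d = hw x d + hw y d + tri x y d := by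
  have a1 := H15.even_card_inter (H15.support₂_mem_codeSets_iff.2 hx) (H15.support₂_mem_codeSets_iff.2 hd)
  have a2 := H15.even_card_inter (H15.support₂_mem_codeSets_iff.2 hy) (H15.support₂_mem_codeSets_iff.2 hd)
  have e1 : support₂ (x + y) = symmDiff (support₂ x) (support₂ y) := by
    rw [← H15.support₂_wordOf (symmDiff _ _), H15.wordOf_symmDiff, H15.wordOf_support₂, H15.wordOf_support₂]
  have e2 : tri x y d = ((support₂ x ∩ support₂ d ∩ (support₂ y ∩ support₂ d)).card : ZMod 2) := by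
    rw [← H15.dot_wordOf]
    unfold tri dotProduct
    refine Finset.sum_congr rfl fun p _ => ?_
    simp only [wordOf, Finset.mem_inter, H15.mem_support₂, Pi.mul_apply]
    rcases z2 (x p) with h1 | h1 <;> rcases z2 (y p) with h2 | h2 <;> rcases z2 (d p) with h3 | h3 <;>
      simp [h1, h2, h3]
  have e3 : symmDiff (support₂ x) (support₂ y) ∩ support₂ d =
      symmDiff (support₂ x ∩ support₂ d) (support₂ y ∩ support₂ d) := by
    ext p; simp only [Finset.mem_inter, Finset.mem_symmDiff]; tauto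
  have e4 := H15.card_symmDiff_add (support₂ x ∩ support₂ d) (support₂ y ∩ support₂ d)
  rw [hw, hw, hw, e1, e2, e3, ← Nat.cast_add, ← Nat.cast_add, ZMod.natCast_eq_natCast_iff']
  obtain ⟨u, hu⟩ := a1
  obtain ⟨v, hv⟩ := a2
  omega

def Cm : ℕ := 316912650057058476548960559616

/-- the Parker cocycle -/
noncomputable def th (x y : Wd) : ZMod 2 := ∑ k, crd y k * hw x (bD k) + bl Cm x y

theorem th_add_right (x y y' : Wd) : th x (y + y') = th x y + th x y' := by
  simp only [th, crd_add, Pi.add_apply, add_mul, Finset.sum_add_distrib, bl_add_right]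
  ring

theorem th_add_left (x x' y : C11) : th (x.1 + x'.1) y.1 = th x.1 y.1 + th x'.1 y.1 + tri x.1 x'.1 y.1 := by
  have e : tri x.1 x'.1 y.1 = ∑ k, crd y.1 k * tri x.1 x'.1 (bD k) :=
    add_ext (g := fun y => tri x.1 x'.1 y.1) (fun a b => tri_add x.1 x'.1 a.1 b.1) y
  simp only [th, hw_add x.2.1 x'.2.1 (bD_mem _), mul_add, Finset.sum_add_distrib, bl_add_left, e]
  ring

def bn (m k : ℕ) : ℕ := Nat.land (Nat.shiftRight m k) 1

theorem bn_cast (m k : ℕ) : (bn m k : ZMod 2) = bz m k := by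
  have h : bn m k = (m >>> k) % 2 := Nat.and_one_is_mod _
  rw [h, bz, Nat.testBit_eq_decide_div_mod_eq, Nat.shiftRight_eq_div_pow]
  rcases Nat.mod_two_eq_zero_or_one (m / 2 ^ k) with h | h <;> simp [h]

theorem sumLt_cast (f : ℕ → ℕ) : (sumLt 11 f : ZMod 2) = ∑ j : Fin 11, (f j : ZMod 2) := by
  rw [H15.sumLt_eq, Nat.cast_sum, Finset.sum_range]

theorem crd_wd (m : ℕ) (j : Fin 11) : crd (wd m) j = bz m (j + 1) := by
  have hj := j.2
  rw [crd, wd_pt _ (by omega)]

noncomputable def blN (U x y : ℕ) : ℕ :=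
  sumLt 11 fun i => Nat.mul (bn x (Nat.succ i)) (sumLt 11 fun j =>
    Nat.mul (bn U (Nat.add (Nat.mul 11 i) j)) (bn y (Nat.succ j)))

theorem blN_cast (U x y : ℕ) : (blN U x y : ZMod 2) = bl U (wd x) (wd y) := by
  rw [blN, sumLt_cast]
  unfold bl dotProduct mv
  refine Finset.sum_congr rfl fun i _ => ?_
  rw [Nat.mul_eq, Nat.cast_mul, sumLt_cast, bn_cast, crd_wd]
  congr 1
  refine Finset.sum_congr rfl fun j _ => ?_
  rw [Nat.mul_eq, Nat.cast_mul, bn_cast, bn_cast, crd_wd]
  rfl

noncomputable def thN (x y : ℕ) : ℕ :=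
  Nat.add (sumLt 11 fun k => Nat.mul (bn y (Nat.succ k)) (Nat.div (wt (Nat.land x (Dc k))) 2)) (blN Cm x y)

theorem thN_cast (x y : ℕ) : (thN x y : ZMod 2) = th (wd x) (wd y) := by
  rw [thN, Nat.add_eq, Nat.cast_add, sumLt_cast, blN_cast, th]
  congr 1
  refine Finset.sum_congr rfl fun k _ => ?_
  rw [Nat.mul_eq, Nat.cast_mul, bn_cast, crd_wd, hw, bD, wd, wd, H15.support₂_wordOf, H15.support₂_wordOf,
    ← H15.ofMask_land, H15.card_ofMask]
  rfl

/-- the scalar product -/
def dt (x w : Wd) : ZMod 2 := x ⬝ᵥ w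

theorem dt_eq (x w : Wd) : dt x w = x ⬝ᵥ w := rfl

attribute [irreducible] bl hw tri th dt

/-- the group -/
@[ext] structure GE where
  σ : Spor.M23
  f : C11 → ZMod 2
  h : ∀ x y, f (x + y) + f x + f y = th x.1 y.1 + th (act σ x).1 (act σ y).1

theorem two_z (a : ZMod 2) : a + a = 0 := CharTwo.add_self_eq_zero a

instance : Mul GE := ⟨fun a b => ⟨a.σ * b.σ, fun x => a.f (act b.σ x) + b.f x, fun x y => by
  have h1 := a.h (act b.σ x) (act b.σ y)
  have h2 := b.h x y
  rw [act_add, act_mul, act_mul]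
  linear_combination h1 + h2 + two_z (th (act b.σ x).1 (act b.σ y).1)⟩⟩

instance : One GE := ⟨⟨1, fun _ => 0, fun x y => by rw [act_one, act_one, two_z (th _ _), add_zero, add_zero]⟩⟩

instance : Inv GE := ⟨fun a => ⟨a.σ⁻¹, fun x => a.f (act a.σ⁻¹ x), fun x y => by
  have h1 := a.h (act a.σ⁻¹ x) (act a.σ⁻¹ y)
  rw [← act_mul, ← act_mul, mul_inv_cancel, act_one, act_one] at h1
  rw [act_add, h1, add_comm]⟩⟩

theorem mul_σ (a b : GE) : (a * b).σ = a.σ * b.σ := rfl
theorem mul_f (a b : GE) (x : C11) : (a * b).f x = a.f (act b.σ x) + b.f x := rfl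

instance : Group GE := Group.ofLeftAxioms
  (fun a b c => GE.ext (mul_assoc _ _ _) (funext fun x => by
    rw [mul_f, mul_f, mul_f, mul_f, mul_σ, act_mul, add_assoc]))
  (fun a => GE.ext (one_mul _) (funext fun x => zero_add _))
  (fun a => GE.ext (inv_mul_cancel _) (funext fun x => by
    show a.f (act a.σ⁻¹ (act a.σ x)) + a.f x = 0
    rw [← act_mul, inv_mul_cancel, act_one, two_z]))

instance : Finite GE :=
  Finite.of_injective (fun a : GE => (a.σ, a.f)) fun _ _ h => GE.ext (congrArg Prod.fst h) (congrArg Prod.snd h)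

def gpi : GE →* Spor.M23 := MonoidHom.mk' GE.σ mul_σ

theorem GE.ext_basis {a b : GE} (h : a.σ = b.σ) (hf : ∀ j, a.f (bC j) = b.f (bC j)) : a = b := by
  refine GE.ext h (funext fun x => ?_)
  have := add_ext (g := fun x => a.f x + b.f x) (fun x y => by
    have h1 := a.h x y
    have h2 := b.h x y
    rw [← h] at h2
    linear_combination h1 + h2 + two_z (th x.1 y.1 + th (act a.σ x).1 (act a.σ y).1) - two_z (a.f x) - two_z (a.f y)
      - two_z (b.f x) - two_z (b.f y)) x
  simp only [hf, two_z, mul_zero, Finset.sum_const_zero] at this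
  linear_combination this - two_z (b.f x)

/-- the translation by a word -/
def tr (w : Wd) : GE := ⟨1, fun x => dt x.1 w, fun x y => by
  rw [act_one, act_one, two_z, Submodule.coe_add, dt_eq, dt_eq, dt_eq, add_dotProduct, add_assoc, two_z]⟩

theorem tr_f (w : Wd) (x : C11) : (tr w).f x = x.1 ⬝ᵥ w := dt_eq _ _

def trH : Wd →+ Additive gpi.ker :=
  AddMonoidHom.mk' (fun w => Additive.ofMul ⟨tr w, rfl⟩) fun v w => by
    rw [← ofMul_mul]
    congr 1
    exact Subtype.ext (GE.ext (mul_one _).symm (funext fun x => by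
      rw [Subgroup.coe_mul, mul_f, tr_f, tr_f, tr_f, dotProduct_add]; rfl))

theorem crd_bC (i j : Fin 11) : crd (bC i).1 j = if i = j then 1 else 0 := by
  have hj := j.2
  show bD i (pt (j + 1)) = _
  rw [bD, wd_pt _ (by omega), Dc_dual]

theorem trH_surj : Function.Surjective trH := by
  intro n
  refine ⟨lin bE fun j => n.toMul.1.f (bC j), Additive.toMul.injective (Subtype.ext ?_)⟩
  refine GE.ext_basis (show (1 : Spor.M23) = _ from n.toMul.2.symm) fun i => ?_
  refine (tr_f _ _).trans ?_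
  simp [dot_linE, crd_bC]

theorem trH_ker (w : Wd) : trH w = 0 ↔ w ∈ KK := by
  constructor
  · intro h
    have h1 : red w = 0 := funext fun i =>
      (tr_f w (bC i)).symm.trans (congrArg (fun n : Additive gpi.ker => n.toMul.1.f (bC i)) h)
    have := red_spec w
    rwa [h1, lin_zero, add_zero] at this
  · intro h
    exact Additive.toMul.injective (Subtype.ext (GE.ext rfl (funext fun x => (tr_f _ _).trans (dot_KK x.2.1 x.2.2 h))))

theorem trH_conj (g : GE) (w : Wd) : tr (w ∘ ⇑(g.σ : Equiv.Perm GolayPt)⁻¹) = g * tr w * g⁻¹ := by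
  rw [eq_mul_inv_iff_mul_eq]
  refine GE.ext ((one_mul _).trans (mul_one _).symm) (funext fun x => ?_)
  rw [mul_f, mul_f, add_comm, tr_f, tr_f, ← comp_equiv_dotProduct_comp_equiv x.1 w (g.σ : Equiv.Perm GolayPt)⁻¹]
  rfl

noncomputable def genOk (c U : ℕ) : Bool :=
  al 11 fun i => force (Dc i) fun x => force (imgM c x) fun x' => al 11 fun j => force (Dc j) fun y =>
    force (imgM c y) fun y' =>
      Nat.beq (Nat.mod (Nat.add (Nat.add (thN x y) (thN x' y')) (Nat.add (blN U x y) (blN U y x))) 2) 0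

theorem cast_of_mod {a : ℕ} (h : Nat.beq (Nat.mod a 2) 0 = true) : (a : ZMod 2) = 0 := by
  rw [Nat.beq_eq] at h
  exact (ZMod.natCast_eq_zero_iff a 2).2 (Nat.dvd_of_mod_eq_zero h)

noncomputable def mkG {c : ℕ} (hc : Good Spor.M23 c) (U : ℕ) (hU : genOk c U = true) : GE :=
  ⟨⟨permOf c, hc.2⟩, fun x => bl U x.1 x.1, fun x y => by
    have := bil_ext (B := fun x y => th x.1 y.1 + th (act ⟨permOf c, hc.2⟩ x).1 (act ⟨permOf c, hc.2⟩ y).1 +
      (bl U x.1 y.1 + bl U y.1 x.1)) (fun x x' y => by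
        have h1 := th_add_left x x' y
        have h2 := th_add_left (act ⟨permOf c, hc.2⟩ x) (act ⟨permOf c, hc.2⟩ x') (act ⟨permOf c, hc.2⟩ y)
        have h3 : tri (act ⟨permOf c, hc.2⟩ x).1 (act ⟨permOf c, hc.2⟩ x').1 (act ⟨permOf c, hc.2⟩ y).1 =
          tri x.1 x'.1 y.1 := tri_comp _ _ _ _
        simp only [act_add, Submodule.coe_add, bl_add_left, bl_add_right]
        linear_combination h1 + h2 + h3 + two_z (tri x.1 x'.1 y.1))
      (fun x y y' => by
        simp only [act_add, Submodule.coe_add, bl_add_left, bl_add_right, th_add_right]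
        ring)
      (fun i j => by
        have h0 := al_iff.1 hU i i.2
        simp only [force_eq] at h0
        have h := cast_of_mod (al_iff.1 h0 j j.2)
        simp only [Nat.add_eq, Nat.cast_add, thN_cast, blN_cast, ← wd_comp hc.1] at h
        exact h) x y
    simp only [Submodule.coe_add, bl_add_left, bl_add_right]
    linear_combination this + two_z (bl U x.1 x.1) + two_z (bl U y.1 y.1)
      - two_z (th x.1 y.1 + th (act ⟨permOf c, hc.2⟩ x).1 (act ⟨permOf c, hc.2⟩ y).1)⟩

noncomputable def Us (k : ℕ) : ℕ := nth [649195757088911827912175924216282, 649512747091331885928678761219846,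
  649354058652580550740406219727152, 154751954255897830067897542, 158533752954007579955188843800,
  649037107354653170678994535399960, 317144782743088633361039623948] k

theorem Us_check : al 7 (fun k => force (sc k) fun c => force (Us k) fun U => genOk c U) = true := by decide +kernel
theorem gen1_check : genOk 959666746644334454845758366636382341 649354252080720915830670255039884 = true := by
  decide +kernel
theorem gen2_check : genOk 974335757583526880979536648136592911 649512747195281583355943005864370 = true := by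
  decide +kernel

theorem gpi_surj : Function.Surjective gpi := by
  have h : Spor.M23 ≤ (Spor.M23.subtype.comp gpi).range := by
    refine H15.M23_le_of_gens fun c hc => ?_
    have hg := H15.gensM23_good c hc
    simp only [H15.gensM23, List.mem_cons, List.not_mem_nil, or_false] at hc
    rcases hc with rfl | rfl
    · exact ⟨mkG hg _ gen1_check, rfl⟩
    · exact ⟨mkG hg _ gen2_check, rfl⟩
  intro σ
  obtain ⟨g, hg⟩ := h σ.2
  exact ⟨g, Subtype.ext hg⟩

noncomputable def gam (k : ℕ) : GE := if h : k < 7 then mkG (good_sc h) (Us k) (al_iff.1 Us_check k h) else 1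

theorem gam_σ {k : ℕ} (h : k < 7) : ((gam k).σ : Equiv.Perm GolayPt) = permOf (sc k) := by
  rw [gam, dif_pos h]; rfl

theorem gam_f {k : ℕ} (h : k < 7) (x : C11) : (gam k).f x = bl (Us k) x.1 x.1 := by
  rw [gam, dif_pos h]; rfl

noncomputable def fK (x : ℕ) (w : List ℕ) : (ℕ → ℕ → Bool) → Bool :=
  List.rec (motive := fun _ => (ℕ → ℕ → Bool) → Bool) (fun k => k x 0)
    (fun a _ ih k => band (Nat.ble a 6) (ih fun y r => force (imgM (sc a) y) fun y' =>
      force (Us a) fun U => force (Nat.add (blN U y y) r) fun r' => k y' r')) w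

theorem fK_spec {x : ℕ} {X : C11} (hX : X.1 = wd x) : ∀ (w : List ℕ) (k : ℕ → ℕ → Bool), fK x w k = true →
    ∃ y r, k y r = true ∧ (act (ev gam w).σ X).1 = wd y ∧ (ev gam w).f X = r
  | [], k, h => ⟨x, 0, h, hX, rfl⟩
  | a :: w, k, h => by
    have h' : band (Nat.ble a 6) (fK x w fun y r => k (imgM (sc a) y) (blN (Us a) y y + r)) = true := h
    rw [band_eq_true, Nat.ble_eq] at h'
    obtain ⟨y, r, h1, h2, h3⟩ := fK_spec hX w _ h'.2
    have ha : a < 7 := by omega
    refine ⟨_, _, h1, ?_, ?_⟩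
    · rw [ev_cons, mul_σ, act_mul, ← wd_comp (good_sc ha).1, ← h2, ← gam_σ ha]; rfl
    · rw [ev_cons, mul_f, gam_f ha, h2, h3, Nat.cast_add, blN_cast]

def TL : ℕ := 76396160290765913647863097103657196171226580954564874274707405109167554044160142173718269958

def tau (r : ℕ) : Vec := fun j => bz TL (11 * r + j)

theorem tail_check : al 7 (fun j => al (Nat.succ j) fun i => force (rel j i) fun r => force (sl RR 7 r) fun a =>
    al 11 fun l => force (Dc l) fun x => fK x [j, i] fun _ r1 => fK x (push a []) fun y r2 =>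
      Nat.beq (Nat.mod (Nat.add r1 (Nat.add (sumLt 11 fun j => Nat.mul (bn y (Nat.succ j))
        (bn TL (Nat.add (Nat.mul 11 r) j))) r2)) 2) 0) = true := by decide +kernel

theorem lam_tau : lf tau lamC = 1 := by decide +kernel

theorem gam_rule : Rule (fun x => tr (lin bE x)) gam tau RR := by
  intro j hj i hi
  have hl : IsLift gpi gam := fun k hk => gam_σ hk
  refine GE.ext_basis (Subtype.ext ((hl.rel_eq hj hi).trans ?_)) fun l => ?_
  · exact congrArg Subtype.val (one_mul _).symm
  · have h0 := al_iff.1 (al_iff.1 tail_check j hj) i (by omega)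
    simp only [force_eq] at h0
    obtain ⟨y1, r1, h1, -, h2⟩ := fK_spec (X := bC l) rfl _ _ (al_iff.1 h0 l l.2)
    obtain ⟨y, r2, h3, h4, h5⟩ := fK_spec (X := bC l) rfl _ _ h1
    have h6 := cast_of_mod h3
    rw [ev_push, ev_nil, mul_one] at h4 h5
    rw [ev_cons, ev_cons, ev_nil, mul_one] at h2
    simp only [Nat.add_eq, Nat.mul_eq, Nat.cast_add, sumLt_cast, Nat.cast_mul, bn_cast] at h6
    rw [h2, mul_f, h5, tr_f, h4, dot_linE]
    simp only [crd_wd, tau]
    linear_combination h6 - two_z (∑ j_1 : Fin 11, bz y (j_1 + 1) * bz TL (11 * rel j i + j_1) + (r2 : ZMod 2))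

theorem exists_nonsplit : ∃ (E : Type) (_ : Group E) (_ : Finite E) (N : Subgroup E) (_ : N.Normal)
      (φ : E ⧸ N ≃* ↥Spor.M23) (θ : (GolayPt → ZMod 2) →+ Additive ↥N),
      Function.Surjective θ ∧
      (∀ w : GolayPt → ZMod 2, θ w = 0 ↔ (w ∈ golayCode ∨ w + Pi.single none 1 ∈ golayCode)) ∧
      (∀ (g : E) (w : GolayPt → ZMod 2),
        ((θ (w ∘ ⇑(((φ (QuotientGroup.mk g) : ↥Spor.M23) : Equiv.Perm GolayPt)⁻¹))).toMul : E)
          = g * ((θ w).toMul : E) * g⁻¹) ∧
      ∀ H : Subgroup E, H ⊓ N = ⊥ → H ⊔ N ≠ ⊤ := by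
  refine ⟨GE, inferInstance, inferInstance, gpi.ker, inferInstance,
    QuotientGroup.quotientKerEquivOfSurjective gpi gpi_surj, trH, trH_surj, trH_ker, trH_conj, fun H h1 h2 => ?_⟩
  have X := ext_cocode gpi.ker (QuotientGroup.quotientKerEquivOfSurjective gpi gpi_surj) trH trH_surj trH_ker trH_conj
  have := (X.split_iff (γ := gam) (fun k hk => gam_σ hk) gam_rule).1 ⟨H, by rw [proj_ker]; exact h1, by rw [proj_ker]; exact h2⟩
  rw [lam_tau] at this
  exact one_ne_zero this

end H8.Coh
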